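import Mathlib.RingTheory.FinitePresentation
import Mathlib.RingTheory.Smooth.Basic
import Mathlib.RingTheory.Finiteness.Projective

/-!
# The functor `B ↦ B ⊗ M` (`M` finite projective) is represented by a smooth algebra
-/

set_option autoImplicit false
universe u

open TensorProduct

namespace Groth.Agent.Pic13.H547.VecAlg

variable (A M : Type u) [CommRing A] [AddCommGroup M] [Module A M]

theorem exists_dual_basis [Module.Finite A M] [Module.Projective A M] :
    ∃ (n : ℕ) (c : Fin n → M) (s : Fin n → (M →ₗ[A] A)), ∀ x, ∑ i, s i x • c i = x := by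
  obtain ⟨n, f, g, -, -, h⟩ := Module.Finite.exists_comp_eq_id_of_projective A M
  refine ⟨n, fun i => f (Pi.single i 1), fun i => (LinearMap.proj i).comp g, fun x => ?_⟩
  have h1 := DFunLike.congr_fun h x
  simp only [LinearMap.comp_apply, LinearMap.id_apply] at h1
  conv_rhs => rw [← h1]
  have h2 : g x = ∑ i, g x i • (Pi.single i (1 : A) : Fin n → A) := by
    ext j
    simp [Finset.sum_apply, Pi.single_apply]
  conv_rhs => rw [h2, map_sum]
  simp

/-- Base change `B ⊗ M → B' ⊗ M`. -/
noncomputable def bm {A : Type u} (M : Type u) [CommRing A] [AddCommGroup M] [Module A M] {B B' : Type u}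
    [CommRing B] [Algebra A B] [CommRing B'] [Algebra A B'] (φ : B →ₐ[A] B') : B ⊗[A] M →ₗ[A] B' ⊗[A] M :=
  LinearMap.rTensor M φ.toLinearMap

@[simp] lemma bm_tmul {B B' : Type u} [CommRing B] [Algebra A B] [CommRing B'] [Algebra A B']
    (φ : B →ₐ[A] B') (b : B) (m : M) : bm M φ (b ⊗ₜ m) = φ b ⊗ₜ m := rfl

lemma bm_comp {B B' B'' : Type u} [CommRing B] [Algebra A B] [CommRing B'] [Algebra A B']
    [CommRing B''] [Algebra A B''] (φ : B →ₐ[A] B') (ψ : B' →ₐ[A] B'') (z : B ⊗[A] M) :
    bm M (ψ.comp φ) z = bm M ψ (bm M φ z) := by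
  induction z using TensorProduct.induction_on with
  | zero => simp
  | add x y hx hy => simp only [map_add, hx, hy]
  | tmul b x => simp

lemma bm_id {B : Type u} [CommRing B] [Algebra A B] (z : B ⊗[A] M) : bm M (AlgHom.id A B) z = z := by
  induction z using TensorProduct.induction_on with
  | zero => simp
  | add x y hx hy => simp only [map_add, hx, hy]
  | tmul b x => simp

lemma bm_surjective {B B' : Type u} [CommRing B] [Algebra A B] [CommRing B'] [Algebra A B']
    (φ : B →ₐ[A] B') (h : Function.Surjective φ) : Function.Surjective (bm M φ) :=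
  LinearMap.rTensor_surjective M h

section coord

variable {A M} {n : ℕ} (c : Fin n → M) (s : Fin n → (M →ₗ[A] A))

/-- Coordinates on `B ⊗ M`. -/
noncomputable def co (B : Type u) [CommRing B] [Algebra A B] (i : Fin n) : B ⊗[A] M →ₗ[B] B :=
  (AlgebraTensorModule.rid A B B).toLinearMap.comp (AlgebraTensorModule.lTensor B B (s i))

@[simp] lemma co_tmul (B : Type u) [CommRing B] [Algebra A B] (i : Fin n) (b : B) (x : M) :
    co s B i (b ⊗ₜ x) = s i x • b := by
  simp [co]

lemma sum_co (h : ∀ x, ∑ i, s i x • c i = x) (B : Type u) [CommRing B] [Algebra A B] (z : B ⊗[A] M) :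
    ∑ i, (co s B i z) ⊗ₜ[A] c i = z := by
  induction z using TensorProduct.induction_on with
  | zero => simp
  | add x y hx hy =>
    simp only [map_add, TensorProduct.add_tmul, Finset.sum_add_distrib, hx, hy]
  | tmul b x =>
    simp only [co_tmul, TensorProduct.smul_tmul]
    rw [← TensorProduct.tmul_sum, h]

lemma map_co {B B' : Type u} [CommRing B] [Algebra A B] [CommRing B'] [Algebra A B'] (φ : B →ₐ[A] B')
    (i : Fin n) (z : B ⊗[A] M) :
    co s B' i (bm M φ z) = φ (co s B i z) := by
  induction z using TensorProduct.induction_on with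
  | zero => simp
  | add x y hx hy => simp only [map_add, hx, hy]
  | tmul b x => simp

end coord

/-- The polynomial ring. -/
abbrev PP (n : ℕ) : Type u := MvPolynomial (ULift.{u} (Fin n)) A

/-- The functor `B ↦ B ⊗ M` is represented by a finitely presented algebra. -/
theorem exists_vecAlg [Module.Finite A M] [Module.Projective A M] :
    ∃ (D : Type u) (_ : CommRing D) (_ : Algebra A D) (_ : Algebra.FinitePresentation A D) (u : D ⊗[A] M),
      ∀ (B : Type u) [CommRing B] [Algebra A B] (v : B ⊗[A] M),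
        ∃! φ : D →ₐ[A] B, bm M φ u = v := by
  classical
  obtain ⟨n, c, s, h⟩ := exists_dual_basis A M
  let X : Fin n → PP A n := fun i => MvPolynomial.X ⟨i⟩
  let x : PP A n ⊗[A] M := ∑ i, X i ⊗ₜ c i
  let T : Finset (PP A n) := Finset.univ.image fun i => X i - co s (PP A n) i x
  let I : Ideal (PP A n) := Ideal.span (T : Set (PP A n))
  have hI : I.FG := ⟨T, rfl⟩
  have mI1 : ∀ i, X i - co s (PP A n) i x ∈ I := fun i => Ideal.subset_span (by simp [T])
  let q : PP A n →ₐ[A] PP A n ⧸ I := Ideal.Quotient.mkₐ A I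
  refine ⟨PP A n ⧸ I, inferInstance, inferInstance, Algebra.FinitePresentation.quotient hI, bm M q x, ?_⟩
  intro B _ _ v
  let φ₀ : PP A n →ₐ[A] B := MvPolynomial.aeval fun t => co s B t.down v
  have hX : ∀ i, φ₀ (X i) = co s B i v := fun i => MvPolynomial.aeval_X _ _
  have hx : bm M φ₀ x = v := by
    conv_rhs => rw [← sum_co c s h B v]
    simp only [x, map_sum, bm_tmul, hX]
  have hker : ∀ p ∈ I, φ₀ p = 0 := by
    have h1 : I ≤ RingHom.ker φ₀ := by
      rw [Ideal.span_le]
      intro p hp
      simp only [T, Finset.coe_image, Finset.coe_univ, Set.image_univ, Set.mem_range] at hp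
      rcases hp with ⟨i, rfl⟩
      change φ₀ _ = 0
      rw [map_sub, hX, ← map_co, hx, sub_self]
    exact fun p hp => h1 hp
  let φ : (PP A n ⧸ I) →ₐ[A] B := Ideal.Quotient.liftₐ I φ₀ hker
  have hφq : φ.comp q = φ₀ := by ext t; rfl
  refine ⟨φ, ?_, ?_⟩
  · change bm M φ (bm M q x) = v
    rw [← bm_comp, hφq, hx]
  · intro ψ hψ
    have hqX : ∀ i, q (X i) = co s (PP A n ⧸ I) i (bm M q x) := by
      intro i
      rw [map_co]
      exact Ideal.Quotient.eq.mpr (mI1 i)
    have h2 : ψ.comp q = φ.comp q := by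
      rw [hφq]
      refine MvPolynomial.algHom_ext fun t => ?_
      change ψ (q (X t.down)) = φ₀ (X t.down)
      rw [hqX, ← map_co, hψ, hX]
    refine AlgHom.ext fun z => ?_
    obtain ⟨z, rfl⟩ := Ideal.Quotient.mkₐ_surjective A I z
    exact DFunLike.congr_fun h2 z

/-- A representing algebra is smooth. -/
theorem smooth_of_universal (D : Type u) [CommRing D] [Algebra A D] [Algebra.FinitePresentation A D]
    (u : D ⊗[A] M)
    (hu : ∀ (B : Type u) [CommRing B] [Algebra A B] (v : B ⊗[A] M), ∃! φ : D →ₐ[A] B, bm M φ u = v) :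
    Algebra.Smooth A D := by
  have : Algebra.FormallySmooth A D := by
    apply Algebra.FormallySmooth.of_comp_surjective
    intro B _ _ I hI g
    obtain ⟨w, hw⟩ := bm_surjective A M (Ideal.Quotient.mkₐ A I) (Ideal.Quotient.mkₐ_surjective A I)
      (bm M g u)
    obtain ⟨φ, hφ, -⟩ := hu B w
    refine ⟨φ, ?_⟩
    apply (hu (B ⧸ I) (bm M g u)).unique _ rfl
    rw [bm_comp, hφ, hw]
  exact ⟨inferInstance, inferInstance⟩

end Groth.Agent.Pic13.H547.VecAlg
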