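import Groth.Agent.Pic13.H547.UnitMap
import Groth.Agent.Pic13.H547.VecAlg

/-!
# Vector group schemes

For `S` affine and `M` a finite projective `Γ(S)`-module, the functor `T ↦ Γ(T) ⊗ M` on all `T ⟶ S` is represented
by a smooth affine commutative group scheme (`exists_vrep`). Linear maps give homomorphisms (`exists_vhom`).
Also: `isCommMonObj_of_points`, `Rep.isCommMonObj`.
-/

set_option autoImplicit false
universe v w u
open CategoryTheory CategoryTheory.Limits AlgebraicGeometry Opposite MonoidalCategory CartesianMonoidalCategory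
  MonObj GrpObj
open Groth.Agent.Pic13.H547.SecSheaf Groth.Agent.Pic13.H547.UnitGrp Groth.Agent.Pic13.H547.VecAlg
open scoped TensorProduct

namespace Groth.Agent.Pic13.H547.VecGrp

section Comm

variable {C : Type u} [Category.{v} C] [CartesianMonoidalCategory C] [BraidedCategory C]

/-- Commutativity of a group object in terms of points. -/
theorem isCommMonObj_of_points (U : C) [GrpObj U] (h : ∀ (T : C) (a b : T ⟶ U), a * b = b * a) :
    IsCommMonObj U := by
  constructor
  have h2 : (μ[U] : U ⊗ U ⟶ U) = fst U U * snd U U := by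
    rw [Hom.mul_def, lift_fst_snd, Category.id_comp]
  conv_rhs => rw [h2, h, Hom.mul_def]
  congr 1
  ext1 <;> simp

end Comm

lemma Rep.isCommMonObj {X S : Scheme.{u}} {f : X ⟶ S} (R : Rep f) : IsCommMonObj R.U := by
  apply isCommMonObj_of_points
  intro T a b
  apply (R.e T).injective
  rw [map_mul, map_mul, mul_comm]

variable {S : Scheme.{u}}

lemma BTmap_id (T : Over S) : BTmap (𝟙 T) = AlgHom.id Γ(S, ⊤) (BT T) := by
  ext x
  rw [BTmap_apply, Over.id_left, Scheme.Hom.id_appTop]
  rfl

lemma BTmap_comp {T T' T'' : Over S} (g : T' ⟶ T) (h : T'' ⟶ T') :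
    BTmap (h ≫ g) = (BTmap h).comp (BTmap g) := by
  ext x
  rw [BTmap_apply, Over.comp_left, Scheme.Hom.comp_appTop]
  rfl

/-- A group scheme representing `T ↦ Γ(T) ⊗ M`. -/
structure VRep (S : Scheme.{u}) (M : Type u) [AddCommGroup M] [Module Γ(S, ⊤) M] where
  /-- the scheme -/
  V : Over S
  /-- the group structure -/
  [grp : GrpObj V]
  /-- the bijection on points -/
  e : ∀ T : Over S, (T ⟶ V) ≃ (BT T ⊗[Γ(S, ⊤)] M)
  mul : ∀ {T : Over S} (a b : T ⟶ V), e T (a * b) = e T a + e T b
  nat : ∀ {T T' : Over S} (g : T' ⟶ T) (a : T ⟶ V), e T' (g ≫ a) = bm M (BTmap g) (e T a)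
  smooth : Smooth V.hom
  affine : IsAffineHom V.hom

attribute [instance] VRep.grp VRep.smooth VRep.affine

variable (M : Type u) [AddCommGroup M] [Module Γ(S, ⊤) M]

/-- The functor `T ↦ Γ(T) ⊗ M` with values in groups. -/
noncomputable def vecGrpF (S : Scheme.{u}) (M : Type u) [AddCommGroup M] [Module Γ(S, ⊤) M] :
    (Over S)ᵒᵖ ⥤ GrpCat.{u} where
  obj T := GrpCat.of (Multiplicative (BT T.unop ⊗[Γ(S, ⊤)] M))
  map g := GrpCat.ofHom (AddMonoidHom.toMultiplicative (bm M (BTmap g.unop)).toAddMonoidHom)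
  map_id T := by
    ext x : 2
    change Multiplicative.ofAdd (bm M (BTmap (𝟙 T.unop)) (Multiplicative.toAdd x)) = x
    rw [BTmap_id, bm_id]
    rfl
  map_comp {T T' T''} g h := by
    ext x : 2
    change Multiplicative.ofAdd (bm M (BTmap (h.unop ≫ g.unop)) (Multiplicative.toAdd x)) =
      Multiplicative.ofAdd (bm M (BTmap h.unop) (bm M (BTmap g.unop) (Multiplicative.toAdd x)))
    rw [BTmap_comp, bm_comp]

/-- `T ↦ Γ(T) ⊗ M` is represented by a smooth affine group scheme. -/
theorem exists_vrep [IsAffine S] [Module.Finite Γ(S, ⊤) M] [Module.Projective Γ(S, ⊤) M] :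
    Nonempty (VRep S M) := by
  obtain ⟨D, _, _, _, u, hu⟩ := VecAlg.exists_vecAlg Γ(S, ⊤) M
  have hsm : Algebra.Smooth Γ(S, ⊤) D := VecAlg.smooth_of_universal _ _ D u hu
  let V : Over S := SpecO D
  have haff : IsAffine V.left := inferInstanceAs (IsAffine (Spec (CommRingCat.of D)))
  have hsmo : Smooth V.hom := by
    have h1 : Smooth (Spec.map (CommRingCat.ofHom (algebraMap Γ(S, ⊤) D))) := by
      rw [HasRingHomProperty.Spec_iff (P := @Smooth)]
      exact (RingHom.smooth_algebraMap).mpr hsm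
    change Smooth (Spec.map (CommRingCat.ofHom (algebraMap Γ(S, ⊤) D)) ≫ S.isoSpec.inv)
    infer_instance
  let e₀ : ∀ T : Over S, (T ⟶ V) ≃ (BT T ⊗[Γ(S, ⊤)] M) := fun T =>
    Equiv.ofBijective (fun g => bm M (ptAlg g) u) (by
      constructor
      · intro g g' hg
        apply (ptAlg_bijective (D := D) T).1
        exact (hu (BT T) (bm M (ptAlg g') u)).unique hg rfl
      · intro v
        obtain ⟨φ, hφ, -⟩ := hu (BT T) v
        obtain ⟨g, hg⟩ := (ptAlg_bijective (D := D) T).2 φ
        have hg' : ptAlg g = φ := hg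
        refine ⟨g, ?_⟩
        change bm M (ptAlg g) u = v
        rw [hg', hφ])
  have hnat : ∀ {T T' : Over S} (g : T' ⟶ T) (a : T ⟶ V), e₀ T' (g ≫ a) = bm M (BTmap g) (e₀ T a) := by
    intro T T' g a
    change bm M (ptAlg (g ≫ a)) u = bm M (BTmap g) (bm M (ptAlg a) u)
    rw [ptAlg_comp, bm_comp]
  let R : (vecGrpF S M ⋙ forget _).RepresentableBy V :=
    { homEquiv := fun {T} => (e₀ T).trans Multiplicative.ofAdd
      homEquiv_comp := fun {T T'} g a => hnat g a }
  obtain ⟨G, hG⟩ := exists_grpObj V (vecGrpF S M) R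
  exact ⟨{ V := V, grp := G, e := e₀, mul := fun {T} a b => hG T a b, nat := hnat, smooth := hsmo,
           affine := inferInstance }⟩

variable {M}

lemma VRep.isCommMonObj (R : VRep S M) : IsCommMonObj R.V := by
  apply isCommMonObj_of_points
  intro T a b
  apply (R.e T).injective
  rw [R.mul, R.mul, add_comm]

lemma VRep.e_one (R : VRep S M) (T : Over S) : R.e T 1 = 0 := by
  have h := R.mul (T := T) 1 1
  rw [_root_.mul_one] at h
  simpa using h

/-- Linear maps induce homomorphisms of vector groups. -/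
theorem exists_vhom {N : Type u} [AddCommGroup N] [Module Γ(S, ⊤) N] (R : VRep S M) (R' : VRep S N)
    (φ : M →ₗ[Γ(S, ⊤)] N) : ∃ κ : R.V ⟶ R'.V, IsMonHom κ ∧
      ∀ (T : Over S) (a : T ⟶ R.V), R'.e T (a ≫ κ) = LinearMap.lTensor (BT T) φ (R.e T a) := by
  obtain ⟨κ, h1, h2⟩ := UnitMap.exists_hom_of_points (U := R.V) (V := R'.V)
    (fun T a => (R'.e T).symm (LinearMap.lTensor (BT T) φ (R.e T a))) (fun {T T'} g a => by
      apply (R'.e T').injective
      rw [Equiv.apply_symm_apply, R'.nat, Equiv.apply_symm_apply, R.nat]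
      generalize R.e T a = z
      induction z using TensorProduct.induction_on with
      | zero => simp
      | add x y hx hy => simp only [map_add, hx, hy]
      | tmul b x => rfl) (fun T a b => by
      apply (R'.e T).injective
      rw [R'.mul, Equiv.apply_symm_apply, Equiv.apply_symm_apply, Equiv.apply_symm_apply, R.mul, map_add])
  refine ⟨κ, h1, fun T a => ?_⟩
  rw [h2, Equiv.apply_symm_apply]

end Groth.Agent.Pic13.H547.VecGrp
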