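import Groth.Agent.Pic13.H547.RelRep
import Groth.Agent.Ega3A.PicRep
import Groth.Agent.Sga3C.QuotProps
import Mathlib.CategoryTheory.Monoidal.Cartesian.Over

/-!
# Lemma A: a Picard functor which is a torsor under an affine quotient group over a scheme `K`

`exists_affine_over`: `f : X ⟶ S`, `π_T : Pic X_T → (T ⟶ K)` natural and étale-locally surjective, `q : W ⟶ Q`
smooth surjective with `Q` affine over `S`, `ρ_T : (T ⟶ W) → Pic X_T` with `w ≫ q = w' ≫ q ↔ ρ w = ρ w'` étale-locally,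
such that the fibres of `π` are étale-locally the orbits of `W`. Then the étale sheafified relative Picard functor of
`f` is represented by a scheme `P` which is affine over `K`.
-/

set_option autoImplicit false
universe w u

open CategoryTheory CategoryTheory.Limits AlgebraicGeometry Opposite MonoidalCategory CartesianMonoidalCategory
open Groth.Agent.Ega3A.PicDiv Groth.Agent.Ega3A.PicEtSh Groth.Agent.Grpsch.PicGrp
open Groth.Agent.Ega3A.PicSheaf Groth.Agent.Ega3A.PicRep Groth.Agent.Picfga.OverRep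
open Groth.Agent.Pic13.H547.RelRep

namespace Groth.Agent.Pic13.H547.LemmaA

variable {X S : Scheme.{u}} (f : X ⟶ S)

/-- Pullback of étale coverings. -/
theorem exists_pull {T T' : Over S} (𝒰 : ECov T) (g : T' ⟶ T) : ∃ 𝒱 : ECov T', ∀ i : 𝒱.ι,
    ∃ (k : 𝒰.ι) (s : 𝒱.V i ⟶ 𝒰.V k), s ≫ 𝒰.j k = 𝒱.j i ≫ g :=
  ⟨ofEt ((toEt 𝒰).pull g), fun i => ⟨i, (toEt 𝒰).snd g i, ((toEt 𝒰).condition g i).symm⟩⟩

/-- Common refinement of two étale coverings. -/
theorem exists_inter {T : Over S} (𝒰 𝒱 : ECov T) : ∃ 𝒲 : ECov T, ∀ i : 𝒲.ι,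
    (∃ (k : 𝒰.ι) (s : 𝒲.V i ⟶ 𝒰.V k), s ≫ 𝒰.j k = 𝒲.j i) ∧
      ∃ (k : 𝒱.ι) (s : 𝒲.V i ⟶ 𝒱.V k), s ≫ 𝒱.j k = 𝒲.j i :=
  ⟨ofEt ((toEt 𝒰).inter (toEt 𝒱)), fun i => ⟨⟨i.1, (toEt 𝒰).inter₁ (toEt 𝒱) i, rfl⟩,
    ⟨i.2, (toEt 𝒰).inter₂ (toEt 𝒱) i, (toEt 𝒰).inter₂_comp (toEt 𝒱) i⟩⟩⟩

/-- Morphisms which agree on an étale covering are equal. -/
theorem hom_ext {T Y : Over S} (𝒰 : ECov T) (a b : T ⟶ Y) (h : ∀ i, 𝒰.j i ≫ a = 𝒰.j i ≫ b) : a = b :=
  Models2.QuoRep.hom_ext_etCov (toEt 𝒰) a b h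

/-- Gluing of morphisms along étale coverings. -/
theorem glue_hom {T Y : Over S} (𝒰 : ECov T) (h : ∀ i, 𝒰.V i ⟶ Y)
    (compat : ∀ (i k : 𝒰.ι) (W : Over S) (a : W ⟶ 𝒰.V i) (b : W ⟶ 𝒰.V k),
      a ≫ 𝒰.j i = b ≫ 𝒰.j k → a ≫ h i = b ≫ h k) :
    ∃ k : T ⟶ Y, ∀ i, 𝒰.j i ≫ k = h i :=
  Models2.QuoRep.glue_hom_etCov (toEt 𝒰) h compat

/-- Étale-local lifts along a smooth surjective morphism. -/
theorem exists_lift {D Q : Over S} (q : D ⟶ Q) [Smooth q.left] [Surjective q.left] {T : Over S} (k : T ⟶ Q) :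
    ∃ 𝒰 : ECov T, ∀ i, ∃ s : 𝒰.V i ⟶ D, s ≫ q = 𝒰.j i ≫ k := by
  obtain ⟨𝒰, h⟩ := Models2.QuoRep.exists_etCov_lift q k
  exact ⟨ofEt 𝒰, h⟩

/-- Sections of an étale sheaf which agree on an étale covering are equal. -/
theorem ext_cover {G : (Over S)ᵒᵖ ⥤ Type w} (hG : Models2.QuoRep.IsEtSheaf G) {T : Over S} (𝒰 : ECov T)
    (y y' : G.obj (op T)) (h : ∀ i, G.map (𝒰.j i).op y = G.map (𝒰.j i).op y') : y = y' :=
  hG.ext_cover T (toEt 𝒰) y y' h

/-- The hypotheses of Lemma A. -/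
structure Data {K W Q : Over S} (q : W ⟶ Q) (π : ∀ T : Over S, Pic (PicF.XT f T) → (T ⟶ K))
    (ρ : ∀ T : Over S, (T ⟶ W) → Pic (PicF.XT f T)) : Prop where
  natπ : ∀ {T T' : Over S} (g : T' ⟶ T) (c : Pic (PicF.XT f T)), π T' (pu f g c) = g ≫ π T c
  surjπ : ∀ {T : Over S} (g : T ⟶ K), ∃ 𝒰 : ECov T, ∀ i, ∃ c : Pic (PicF.XT f (𝒰.V i)), π _ c = 𝒰.j i ≫ g
  natρ : ∀ {T T' : Over S} (g : T' ⟶ T) (r : T ⟶ W), LocEq f T' (ρ T' (g ≫ r)) (pu f g (ρ T r))
  ker : ∀ {T : Over S} (a b : T ⟶ W), a ≫ q = b ≫ q ↔ LocEq f T (ρ T a) (ρ T b)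
  actπ : ∀ {T : Over S} (c : Pic (PicF.XT f T)) (r : T ⟶ W), π T (c * ρ T r) = π T c
  trans : ∀ {T : Over S} (c c' : Pic (PicF.XT f T)), π T c = π T c' → ∃ 𝒰 : ECov T, ∀ i, ∃ r : 𝒰.V i ⟶ W,
    LocEq f _ (pu f (𝒰.j i) c') (pu f (𝒰.j i) c * ρ _ r)

variable {f} {K W Q : Over S} {q : W ⟶ Q} {π : ∀ T : Over S, Pic (PicF.XT f T) → (T ⟶ K)}
  {ρ : ∀ T : Over S, (T ⟶ W) → Pic (PicF.XT f T)}

namespace Data

/-- `π` is constant on étale-local classes. -/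
theorem π_eq (h : Data f q π ρ) {T : Over S} {c c' : Pic (PicF.XT f T)} (hc : LocEq f T c c') :
    π T c = π T c' := by
  obtain ⟨𝒰, h𝒰⟩ := hc
  apply Models2.QuoRep.hom_ext_etCov (toEt 𝒰)
  intro i
  have h1 : π _ (pu f (𝒰.j i) c) = π _ (pu f (𝒰.j i) c') := by rw [h𝒰 i]
  rw [h.natπ, h.natπ] at h1
  exact h1

/-- Extension of `π` to the sheafification. -/
theorem exists_toSch (h : Data f q π ρ) (E : PicSh f) : ∃ p : ToSch E.G K,
    ∀ (T : Over S) (c : Pic (PicF.XT f T)), p.π (E.η c) = π T c := by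
  have key : ∀ (T : Over S) (x : E.G.obj (op T)), ∃ k : T ⟶ K, ∀ (T' : Over S) (g : T' ⟶ T)
      (c : Pic (PicF.XT f T')), E.η c = E.G.map g.op x → π T' c = g ≫ k := by
    intro T x
    obtain ⟨𝒰, h𝒰⟩ := E.locSurj T x
    choose c hc using h𝒰
    obtain ⟨k, hk⟩ := glue_hom 𝒰 (fun i => π _ (c i)) (by
      intro i j V a b hab
      rw [← h.natπ, ← h.natπ]
      apply h.π_eq
      rw [← E.eq_iff, E.nat, E.nat, hc, hc, ← map_comp_apply, ← map_comp_apply, hab])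
    refine ⟨k, fun T' g d hd => ?_⟩
    obtain ⟨𝒱, h𝒱⟩ := exists_pull 𝒰 g
    apply hom_ext 𝒱
    intro i
    obtain ⟨j, s, hs⟩ := h𝒱 i
    rw [← h.natπ, ← Category.assoc, ← hs, Category.assoc, hk, ← h.natπ]
    apply h.π_eq
    rw [← E.eq_iff, E.nat, E.nat, hd, hc, ← map_comp_apply, ← map_comp_apply, hs]
  choose k hk using key
  refine ⟨{ π := fun {T} x => k T x, nat := ?_ }, ?_⟩
  · intro T T' g x
    obtain ⟨𝒰, h𝒰⟩ := E.locSurj T' (E.G.map g.op x)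
    apply hom_ext 𝒰
    intro i
    obtain ⟨c, hc⟩ := h𝒰 i
    have h1 := hk T' _ _ (𝒰.j i) c hc
    have h2 := hk T x _ (𝒰.j i ≫ g) c (by rw [hc, map_comp_apply])
    rw [Category.assoc] at h2
    exact h1.symm.trans h2
  · intro T c
    have h1 := hk T (E.η c) T (𝟙 T) c (by simp)
    rw [Category.id_comp] at h1
    exact h1.symm

/-- The universal element on `V ⊗ Q` attached to a class on `X_V`. -/
theorem exists_chart [Smooth q.left] [Surjective q.left] (h : Data f q π ρ) (E : PicSh f) (p : ToSch E.G K)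
    (hp : ∀ (T : Over S) (c : Pic (PicF.XT f T)), p.π (E.η c) = π T c) {V : Over S} (j : V ⟶ K)
    (c : Pic (PicF.XT f V)) (hc : π V c = j) :
    ∃ ξ : E.G.obj (op (V ⊗ Q)), RelUniv p j (fst V Q) ξ := by
  let q' : V ⊗ W ⟶ V ⊗ Q := 𝟙 V ⊗ₘ q
  have sm : Smooth q'.left := Sga3C.QuotProps.tensorHom_left_of (@Smooth) (𝟙 V) q
    (by rw [Over.id_left]; infer_instance) ‹_›
  have su : Surjective q'.left := Sga3C.QuotProps.tensorHom_left_of (@Surjective) (𝟙 V) q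
    (by rw [Over.id_left]; infer_instance) ‹_›
  have hq1 : q' ≫ fst V Q = fst V W := by simp [q']
  have hq2 : q' ≫ snd V Q = snd V W ≫ q := by simp [q']
  -- the class on `V ⊗ W`
  let d : Pic (PicF.XT f (V ⊗ W)) := pu f (fst V W) c * ρ _ (snd V W)
  have hd : ∀ {T : Over S} (a : T ⟶ V ⊗ W), LocEq f T (pu f a d)
      (pu f (a ≫ fst V W) c * ρ T (a ≫ snd V W)) := by
    intro T a
    rw [map_mul, ← pu_comp]
    exact (LocEq.refl _).mul (h.natρ a (snd V W)).symm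
  -- comparison of two points
  have hcmp : ∀ {T : Over S} (a b : T ⟶ V ⊗ W), a ≫ fst V W = b ≫ fst V W →
      (a ≫ q' = b ≫ q' ↔ LocEq f T (pu f a d) (pu f b d)) := by
    intro T a b hab
    have h1 : LocEq f T (pu f a d) (pu f b d) ↔ LocEq f T (ρ T (a ≫ snd V W)) (ρ T (b ≫ snd V W)) := by
      constructor
      · intro h2
        have h3 := ((hd a).symm.trans h2).trans (hd b)
        rw [hab, mul_comm, mul_comm _ (ρ T (b ≫ snd V W)), LocEq.mul_right_iff] at h3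
        exact h3
      · intro h2
        refine ((hd a).trans ?_).trans (hd b).symm
        rw [hab]
        exact (LocEq.refl _).mul h2
    rw [h1, ← h.ker]
    constructor
    · intro h2
      have h3 := congrArg (fun z => z ≫ snd V Q) h2
      simpa [Category.assoc, hq2] using h3
    · intro h2
      ext1
      · rw [Category.assoc, Category.assoc, hq1, hab]
      · rw [Category.assoc, Category.assoc, hq2, ← Category.assoc, ← Category.assoc, h2]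
  obtain ⟨ξ, hξ, -⟩ := Models2.QuoRep.exists_descent q' (E.η d) E.sheaf (by
    intro T a b hab
    rw [← E.nat, ← E.nat, E.eq_iff]
    refine (hcmp a b ?_).mp hab
    have h3 := congrArg (fun z => z ≫ fst V Q) hab
    simpa [Category.assoc, hq1] using h3)
  have hξ' : ∀ {T : Over S} (a : T ⟶ V ⊗ W), E.G.map (a ≫ q').op ξ = E.η (pu f a d) := by
    intro T a
    rw [map_comp_apply, hξ, E.nat]
  refine ⟨ξ, ?_, ?_⟩
  · obtain ⟨𝒰, h𝒰⟩ := exists_lift q' (𝟙 (V ⊗ Q))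
    apply hom_ext 𝒰
    intro i
    obtain ⟨s, hs⟩ := h𝒰 i
    rw [Category.comp_id] at hs
    rw [← p.nat, ← hs, hξ', hp, h.natπ]
    have h1 : π _ d = fst V W ≫ j := by
      rw [h.actπ, h.natπ, hc]
    rw [h1, ← hq1]
    simp only [Category.assoc]
  · intro T v x hx
    -- uniqueness
    have huniq : ∀ (T : Over S) (g g' : T ⟶ V ⊗ Q), g ≫ fst V Q = g' ≫ fst V Q →
        E.G.map g.op ξ = E.G.map g'.op ξ → g = g' := by
      intro T g g' hg hgx
      obtain ⟨𝒰, h𝒰⟩ := exists_lift q' g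
      obtain ⟨𝒱, h𝒱⟩ := exists_lift q' g'
      obtain ⟨𝒲, h𝒲⟩ := exists_inter 𝒰 𝒱
      apply hom_ext 𝒲
      intro i
      obtain ⟨⟨k, s, hs⟩, ⟨k', s', hs'⟩⟩ := h𝒲 i
      obtain ⟨a, ha⟩ := h𝒰 k
      obtain ⟨b, hb⟩ := h𝒱 k'
      have e1 : 𝒲.j i ≫ g = (s ≫ a) ≫ q' := by rw [Category.assoc, ha, ← Category.assoc, hs]
      have e2 : 𝒲.j i ≫ g' = (s' ≫ b) ≫ q' := by rw [Category.assoc, hb, ← Category.assoc, hs']
      rw [e1, e2]
      refine (hcmp _ _ ?_).mpr ?_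
      · rw [← hq1, ← Category.assoc, ← Category.assoc, ← e1, ← e2, Category.assoc, Category.assoc, hg]
      · rw [← E.eq_iff, ← hξ', ← hξ', ← e1, ← e2, map_comp_apply, map_comp_apply, hgx]
    -- existence
    obtain ⟨𝒰, h𝒰⟩ := E.locSurj T x
    choose c' hc' using h𝒰
    have h1 : ∀ i, π _ (pu f (𝒰.j i ≫ v) c) = π _ (c' i) := by
      intro i
      rw [h.natπ, hc, Category.assoc, ← hx, ← p.nat, ← hc', hp]
    choose 𝒱 h𝒱 using fun i => h.trans _ _ (h1 i)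
    choose r hr using h𝒱
    let 𝒲 : ECov T := LocEq.bind 𝒰 𝒱
    let g : ∀ i : 𝒲.ι, 𝒲.V i ⟶ V ⊗ Q := fun i => lift (𝒲.j i ≫ v) (r i.1 i.2 ≫ q)
    have hg0 : ∀ i : 𝒲.ι, g i = lift (𝒲.j i ≫ v) (r i.1 i.2) ≫ q' := by
      intro i
      ext1 <;> simp [g, q']
    have hg1 : ∀ i : 𝒲.ι, g i ≫ fst V Q = 𝒲.j i ≫ v := fun i => lift_fst _ _
    have hg2 : ∀ i : 𝒲.ι, E.G.map (g i).op ξ = E.G.map (𝒲.j i).op x := by
      intro i
      have e1 : E.G.map (𝒲.j i).op x = E.η (pu f ((𝒱 i.1).j i.2) (c' i.1)) := by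
        rw [E.nat, hc', ← map_comp_apply]
        rfl
      rw [hg0, hξ', e1]
      refine E.eq_iff.mpr ?_
      refine (hd _).trans ?_
      rw [lift_fst, lift_snd]
      have e2 : pu f (𝒲.j i ≫ v) c = pu f ((𝒱 i.1).j i.2) (pu f (𝒰.j i.1 ≫ v) c) := by
        rw [← pu_comp, ← Category.assoc]
        rfl
      rw [e2]
      exact (hr i.1 i.2).symm
    obtain ⟨k, hk⟩ := glue_hom 𝒲 g (by
      intro i j Z a b hab
      apply huniq
      · rw [Category.assoc, Category.assoc, hg1, hg1, ← Category.assoc, ← Category.assoc, hab]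
      · rw [map_comp_apply, map_comp_apply, hg2, hg2, ← map_comp_apply, ← map_comp_apply, hab])
    refine ⟨k, ⟨?_, ?_⟩, ?_⟩
    · apply hom_ext 𝒲
      intro i
      rw [← Category.assoc, hk, hg1]
    · apply ext_cover E.sheaf 𝒲
      intro i
      rw [← map_comp_apply, hk, hg2]
    · rintro k' ⟨hk1, hk2⟩
      apply hom_ext 𝒲
      intro i
      rw [hk]
      apply huniq
      · rw [Category.assoc, hk1, hg1]
      · rw [map_comp_apply, hk2, hg2]

/-- **Lemma A.** -/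
theorem exists_affine_over [Smooth q.left] [Surjective q.left] [IsAffineHom Q.hom] (h : Data f q π ρ) :
    ∃ (P : Over S) (φ : ∀ T : Over S, Pic (PicF.XT f T) → (T ⟶ P)) (r : P ⟶ K),
      RepPic f P φ ∧ IsAffineHom r.left ∧ ∀ (T : Over S) (c : Pic (PicF.XT f T)), φ T c ≫ r = π T c := by
  obtain ⟨E⟩ := exists_picSh f
  obtain ⟨p, hp⟩ := h.exists_toSch E
  obtain ⟨P, Z, haff, hZ⟩ := exists_of_etale_affine E.sheaf p (by
    intro κ
    obtain ⟨𝒰, h𝒰⟩ := h.surjπ (𝟙 K)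
    obtain ⟨i, v, hv⟩ := 𝒰.covers κ
    obtain ⟨c, hc⟩ := h𝒰 i
    rw [Category.comp_id] at hc
    obtain ⟨B, hB, hvB, -⟩ := exists_isAffineOpen_mem_and_subset (X := (𝒰.V i).left) (x := v) (U := ⊤) trivial
    let V : Over S := Over.mk (B.ι ≫ (𝒰.V i).hom)
    let m : V ⟶ 𝒰.V i := res (𝒰.V i) B
    have hV : IsAffine V.left := hB
    obtain ⟨ξ, hξ⟩ := h.exists_chart E p hp (m ≫ 𝒰.j i) (pu f m c) (by rw [h.natπ, hc])
    exact ⟨{ V := V, A := V ⊗ Q, j := m ≫ 𝒰.j i, a := fst V Q, ξ := ξ,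
             etale := by
               change Etale (B.ι ≫ (𝒰.j i).left)
               infer_instance
             mem := ⟨⟨v, hvB⟩, by
               change (B.ι ≫ (𝒰.j i).left) ⟨v, hvB⟩ = κ
               rw [Scheme.Hom.comp_apply]
               exact hv⟩
             affV := hV
             aff := by
               change IsAffineHom (pullback.fst V.hom Q.hom)
               infer_instance
             univ := hξ }⟩)
  choose φ hφ hu using hZ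
  refine ⟨P, fun T c => φ T (E.η c), p.π Z, ?_, haff, ?_⟩
  · refine ⟨?_, ?_, ?_⟩
    · intro T T' g c
      symm
      apply hu
      rw [map_comp_apply, hφ, E.nat]
    · intro T g
      obtain ⟨𝒰, h𝒰⟩ := E.locSurj T (E.G.map g.op Z)
      refine ⟨𝒰, fun i => ?_⟩
      obtain ⟨c, hc⟩ := h𝒰 i
      refine ⟨c, (hu _ _ _ ?_).symm⟩
      change E.G.map (𝒰.j i ≫ g).op Z = _
      rw [map_comp_apply, hc]
    · intro T c c' h
      rw [← E.eq_iff, ← hφ T (E.η c), ← hφ T (E.η c'), h]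
  · intro T c
    rw [← p.nat, hφ, hp]

end Data

end Groth.Agent.Pic13.H547.LemmaA
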