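import Groth.Agent.Pic13.H547.UnitGrp
import Groth.Agent.Pic13.H602.Rig
import Groth.Prelude.Def_AlgGrp

/-!
# Homomorphisms of unit group schemes induced by morphisms

* `exists_hom_of_points`: a natural family of homomorphisms on points is given by a homomorphism;
* `isKernel_of_points`: kernels in terms of points;
* `resU f w T : Γ(X_T)ˣ →* Γ(W_T)ˣ` for `w : W ⟶ X`;
* `exists_res`: it is represented by a homomorphism `(Rep f).U ⟶ (Rep (w ≫ f)).U`.
-/

set_option autoImplicit false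
universe v u
open CategoryTheory CategoryTheory.Limits AlgebraicGeometry Opposite MonoidalCategory CartesianMonoidalCategory
  MonObj GrpObj
open Groth.Agent.Pic13.H547.SecSheaf Groth.Agent.Pic13.H547.UnitGrp Groth.Agent.Pic13.H602.Rig

namespace Groth.Agent.Pic13.H547.UnitMap

section Cat

variable {C : Type u} [Category.{v} C] [CartesianMonoidalCategory C]

/-- Homomorphisms of group objects from natural families of homomorphisms on points. -/
theorem exists_hom_of_points {U V : C} [GrpObj U] [GrpObj V] (φ : ∀ T : C, (T ⟶ U) → (T ⟶ V))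
    (nat : ∀ {T T' : C} (g : T' ⟶ T) (a : T ⟶ U), φ T' (g ≫ a) = g ≫ φ T a)
    (mul : ∀ (T : C) (a b : T ⟶ U), φ T (a * b) = φ T a * φ T b) :
    ∃ κ : U ⟶ V, IsMonHom κ ∧ ∀ (T : C) (a : T ⟶ U), a ≫ κ = φ T a := by
  have h1 : ∀ (T : C) (a : T ⟶ U), a ≫ φ U (𝟙 U) = φ T a := by
    intro T a
    rw [← nat, Category.comp_id]
  refine ⟨φ U (𝟙 U), ⟨?_, ?_⟩, h1⟩
  · rw [h1]
    have h2 : φ (𝟙_ C) η[U] * φ (𝟙_ C) η[U] = φ (𝟙_ C) η[U] := by
      rw [← mul]
      congr 1
      have : (η[U] : 𝟙_ C ⟶ U) = 1 := by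
        rw [Hom.one_def, toUnit_unique (toUnit (𝟙_ C)) (𝟙 _), Category.id_comp]
      rw [this, _root_.mul_one]
    have h3 : φ (𝟙_ C) η[U] = 1 := mul_eq_left.mp h2
    rw [h3, Hom.one_def, toUnit_unique (toUnit (𝟙_ C)) (𝟙 _), Category.id_comp]
  · have h2 : (μ[U] : U ⊗ U ⟶ U) = fst U U * snd U U := by
      rw [Hom.mul_def, lift_fst_snd, Category.id_comp]
    rw [h1, h2, mul, ← h1 _ (fst U U), ← h1 _ (snd U U), Hom.mul_def]
    congr 1
    ext1 <;> simp

/-- Kernels in terms of points. -/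
theorem isKernel_of_points {K G N : C} [GrpObj N] (κ : K ⟶ G) (p : G ⟶ N)
    (hinj : ∀ (T : C) (a b : T ⟶ K), a ≫ κ = b ≫ κ → a = b)
    (h : ∀ (T : C) (c : T ⟶ G), c ≫ p = 1 ↔ ∃ a : T ⟶ K, a ≫ κ = c) :
    IsPullback κ (toUnit K) p η[N] := by
  have e : ∀ {T : C}, (1 : T ⟶ N) = toUnit T ≫ η[N] := fun {T} => Hom.one_def
  refine ⟨⟨?_⟩, ⟨PullbackCone.IsLimit.mk _ (fun s => ((h s.pt s.fst).mp ?_).choose) ?_ ?_ ?_⟩⟩
  · rw [← e]
    exact (h K κ).mpr ⟨𝟙 K, Category.id_comp _⟩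
  · rw [e, s.condition]
    congr 1
    exact toUnit_unique _ _
  · intro s
    exact ((h s.pt s.fst).mp (by rw [e, s.condition]; congr 1; exact toUnit_unique _ _)).choose_spec
  · intro s
    exact toUnit_unique _ _
  · intro s m hm _
    apply hinj
    rw [hm]
    exact (((h s.pt s.fst).mp (by rw [e, s.condition]; congr 1; exact toUnit_unique _ _)).choose_spec).symm

end Cat

section Res

variable {W X S : Scheme.{u}} (f : X ⟶ S) (w : W ⟶ X)

/-- Restriction of units. -/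
noncomputable def resU (T : Over S) : Γ(PicF.XT f T, ⊤)ˣ →* Γ(PicF.XT (w ≫ f) T, ⊤)ˣ :=
  Units.map ((wT f w T).appTop.hom : Γ(PicF.XT f T, ⊤) →* Γ(PicF.XT (w ≫ f) T, ⊤))

@[simp] lemma resU_val (T : Over S) (x : Γ(PicF.XT f T, ⊤)ˣ) :
    (resU f w T x : Γ(PicF.XT (w ≫ f) T, ⊤)) = (wT f w T).appTop (x : Γ(PicF.XT f T, ⊤)) := rfl

lemma resU_nat {T T' : Over S} (g : T' ⟶ T) (x : Γ(PicF.XT f T, ⊤)ˣ) :
    resU f w T' (upu f g x) = upu (w ≫ f) g (resU f w T x) := by
  apply Units.ext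
  rw [resU_val, upu_val, upu_val, resU_val]
  have h := congrArg Scheme.Hom.appTop (wT_XTmap f w g)
  rw [Scheme.Hom.comp_appTop, Scheme.Hom.comp_appTop] at h
  exact congr(($h).hom (x : Γ(PicF.XT f T, ⊤)))

lemma resU_injective (T : Over S) (h : Function.Injective (wT f w T).appTop) :
    Function.Injective (resU f w T) := by
  intro x y hxy
  apply Units.ext
  apply h
  exact congrArg Units.val hxy

variable {f w}

/-- The restriction of units is represented by a homomorphism. -/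
theorem exists_res (R : Rep f) (R' : Rep (w ≫ f)) :
    ∃ κ : R.U ⟶ R'.U, IsMonHom κ ∧ ∀ (T : Over S) (a : T ⟶ R.U), R'.e T (a ≫ κ) = resU f w T (R.e T a) := by
  obtain ⟨κ, h1, h2⟩ := exists_hom_of_points (U := R.U) (V := R'.U)
    (fun T a => (R'.e T).symm (resU f w T (R.e T a))) (fun {T T'} g a => by
      apply (R'.e T').injective
      rw [MulEquiv.apply_symm_apply, R'.nat, MulEquiv.apply_symm_apply, R.nat, resU_nat]) (fun T a b => by
      rw [map_mul, map_mul, map_mul])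
  refine ⟨κ, h1, fun T a => ?_⟩
  rw [h2, MulEquiv.apply_symm_apply]

end Res

end Groth.Agent.Pic13.H547.UnitMap
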