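import Groth.Agent.Pic13.H547.D1Glue
import Groth.Agent.Pic13.H958.KilBC

/-!
# The affine core in ring form

`core_of_ring`: the relative representability hypothesis of `AffGlue.exists_isUniv` from its form for
`T = Spec B`, tested on `Spec B'` for `B`-algebras `B'`.
`CoreRing`, `core_of_coreRing`: the case of the rigidified Picard functors (`D1Glue.Core`).
-/

set_option autoImplicit false
universe v w u

open CategoryTheory CategoryTheory.Limits AlgebraicGeometry Opposite
open Groth.Agent.Picfga.OverRep Groth.Agent.Pic13.H958.KilBC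
open Groth.Agent.Pic13.H602.Rig

namespace Groth.Agent.Pic13.H547.CoreGlue

section ob

variable {S : Scheme.{u}} {B : Type u} [CommRing B] (t : Spec (CommRingCat.of B) ⟶ S)

/-- The spectrum of a `B`-algebra as an object over `S`. -/
noncomputable abbrev ob (A : Type u) [CommRing A] [Algebra B A] : Over S := Over.mk (sp B A ≫ t)

/-- The structure morphism to `Spec B`. -/
noncomputable def toB (A : Type u) [CommRing A] [Algebra B A] : ob t A ⟶ Over.mk t :=
  Over.homMk (sp B A) rfl

@[simp] lemma toB_left (A : Type u) [CommRing A] [Algebra B A] : (toB t A).left = sp B A := rfl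

variable {A A' : Type u} [CommRing A] [Algebra B A] [CommRing A'] [Algebra B A']

lemma spec_comp_sp (ψ : A →ₐ[B] A') :
    Spec.map (CommRingCat.ofHom ψ.toRingHom) ≫ sp B A = sp B A' := by
  rw [sp, sp, ← Spec.map_comp, ← CommRingCat.ofHom_comp]
  congr 2
  exact ψ.comp_algebraMap

/-- The morphism given by a homomorphism of algebras. -/
noncomputable def toA (ψ : A →ₐ[B] A') : ob t A' ⟶ ob t A :=
  Over.homMk (Spec.map (CommRingCat.ofHom ψ.toRingHom)) (by
    change _ ≫ sp B A ≫ t = sp B A' ≫ t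
    rw [← Category.assoc, spec_comp_sp])

@[simp] lemma toA_left (ψ : A →ₐ[B] A') :
    (toA t ψ).left = Spec.map (CommRingCat.ofHom ψ.toRingHom) := rfl

@[simp] lemma toA_toB (ψ : A →ₐ[B] A') : toA t ψ ≫ toB t A = toB t A' := by
  ext1
  exact spec_comp_sp ψ

variable {t}

/-- Morphisms over `Spec B` come from homomorphisms of algebras. -/
lemma exists_toA (h : ob t A' ⟶ ob t A) (hh : h ≫ toB t A = toB t A') :
    ∃ ψ : A →ₐ[B] A', toA t ψ = h := by
  let g : CommRingCat.of A ⟶ CommRingCat.of A' := Spec.preimage h.left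
  have hg : Spec.map g = h.left := Spec.map_preimage _
  have h1 : Spec.map g ≫ sp B A = sp B A' := by
    rw [hg]
    exact congrArg CommaMorphism.left hh
  have h2 : CommRingCat.ofHom (algebraMap B A) ≫ g = CommRingCat.ofHom (algebraMap B A') := by
    apply Spec.map_injective
    rw [Spec.map_comp]
    exact h1
  refine ⟨{ g.hom with commutes' := fun r => congr($h2 r) }, ?_⟩
  ext1
  exact hg

end ob

section Abs

variable {S : Scheme.{u}} {F : (Over S)ᵒᵖ ⥤ Type w} {G : (Over S)ᵒᵖ ⥤ Type v}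
  (φ : ∀ T : Over S, F.obj (op T) → G.obj (op T))

/-- The ring form. -/
def RingCore {B : Type u} [CommRing B] (t : Spec (CommRingCat.of B) ⟶ S)
    (x : G.obj (op (Over.mk t))) : Prop :=
  ∃ (A : Type u) (_ : CommRing A) (_ : Algebra B A) (y : F.obj (op (ob t A))),
    Algebra.FiniteType B A ∧ φ _ y = G.map (toB t A).op x ∧
    ∀ (B' : Type u) [CommRing B'] [Algebra B B'] (y' : F.obj (op (ob t B'))),
      φ _ y' = G.map (toB t B').op x → ∃! ψ : A →ₐ[B] B', F.map (toA t ψ).op y = y'

variable {φ}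

/-- **From the ring form to affine schemes.** -/
theorem core_of_ring
    (nat : ∀ {T T' : Over S} (g : T' ⟶ T) (x : F.obj (op T)), φ T' (F.map g.op x) = G.map g.op (φ T x))
    (H : ∀ (B : Type u) [CommRing B] (t : Spec (CommRingCat.of B) ⟶ S) (x : G.obj (op (Over.mk t))),
      RingCore (F := F) φ t x)
    (T : Over S) [IsAffine T.left] (x : G.obj (op T)) :
    ∃ (A : Over S) (a : A ⟶ T) (y : F.obj (op A)), IsAffine A.left ∧ LocallyOfFiniteType a.left ∧
      φ A y = G.map a.op x ∧ ∀ (T' : Over S) [IsAffine T'.left] (b : T' ⟶ T) (y' : F.obj (op T')),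
        φ T' y' = G.map b.op x → ∃! h : T' ⟶ A, h ≫ a = b ∧ F.map h.op y = y' := by
  let B : Type u := Γ(T.left, ⊤)
  let t : Spec (CommRingCat.of B) ⟶ S := T.left.isoSpec.inv ≫ T.hom
  let e : Over.mk t ≅ T := Over.isoMk T.left.isoSpec.symm rfl
  obtain ⟨A, _, _, y, hft, hy, huniv⟩ := H B t (G.map e.hom.op x)
  refine ⟨ob t A, toB t A ≫ e.hom, y, inferInstanceAs (IsAffine (Spec (CommRingCat.of A))), ?_, ?_, ?_⟩
  · have h1 : LocallyOfFiniteType (sp B A) := by
      rw [HasRingHomProperty.Spec_iff (P := @LocallyOfFiniteType)]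
      exact (RingHom.finiteType_algebraMap (A := B) (B := A)).mpr hft
    have h2 : IsIso e.hom.left := inferInstance
    have h3 : (toB t A ≫ e.hom).left = sp B A ≫ e.hom.left := rfl
    rw [h3]
    infer_instance
  · rw [hy, map_comp_apply]
  · intro T' _ b y' hy'
    let B' : Type u := Γ(T'.left, ⊤)
    let alg : Algebra B B' := b.left.appTop.hom.toAlgebra
    have hsp : sp B B' = Spec.map b.left.appTop := rfl
    have hnat : sp B B' ≫ T.left.isoSpec.inv = T'.left.isoSpec.inv ≫ b.left :=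
      Scheme.isoSpec_inv_naturality b.left
    let e' : ob t B' ≅ T' := Over.isoMk T'.left.isoSpec.symm (by
      change T'.left.isoSpec.inv ≫ T'.hom = sp B B' ≫ T.left.isoSpec.inv ≫ T.hom
      rw [← Category.assoc, hnat, Category.assoc, Over.w b])
    have he' : e'.hom ≫ b = toB t B' ≫ e.hom := by
      ext1
      exact hnat.symm
    obtain ⟨ψ, hψ, huniq⟩ := huniv B' (F.map e'.hom.op y') (by
      rw [nat, hy', ← map_comp_apply, ← map_comp_apply, he'])
    refine ⟨e'.inv ≫ toA t ψ, ⟨?_, ?_⟩, ?_⟩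
    · rw [Category.assoc, ← Category.assoc (toA t ψ), toA_toB, ← he', Iso.inv_hom_id_assoc]
    · change F.map (toA t ψ).op y = _ at hψ
      rw [map_comp_apply, hψ, ← map_comp_apply, Iso.inv_hom_id, op_id, F.map_id]
      rfl
    · rintro h ⟨h1, h2⟩
      have h3 : (e'.hom ≫ h) ≫ toB t A = toB t B' := by
        rw [← cancel_mono e.hom, Category.assoc, Category.assoc, h1, he']
      obtain ⟨ψ', hψ'⟩ := exists_toA _ h3
      have h4 : ψ' = ψ := huniq ψ' (by
        change F.map (toA t ψ').op y = _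
        rw [hψ', map_comp_apply, h2])
      rw [← h4, hψ', Iso.inv_hom_id_assoc]

end Abs

section Rig

variable {X X₀ Y Y₀ S : Scheme.{u}} (f : X ⟶ S) (i : X₀ ⟶ X) (w : Y ⟶ X) (w₀ : Y₀ ⟶ X₀) (j : Y₀ ⟶ Y)
  (hw : w₀ ≫ i = j ≫ w)

/-- The affine core of the square-zero step in ring form. -/
def CoreRing {B : Type u} [CommRing B] (t : Spec (CommRingCat.of B) ⟶ S)
    (x : RCl (wT (i ≫ f) w₀ (Over.mk t))) : Prop :=
  ∃ (A : Type u) (_ : CommRing A) (_ : Algebra B A) (y : RCl (wT f w (ob t A))),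
    Algebra.FiniteType B A ∧
    D1Glue.φ f i w w₀ j hw (ob t A) y = RCl.pull (wT_XTmap (i ≫ f) w₀ (toB t A)) x ∧
    ∀ (B' : Type u) [CommRing B'] [Algebra B B'] (y' : RCl (wT f w (ob t B'))),
      D1Glue.φ f i w w₀ j hw (ob t B') y' = RCl.pull (wT_XTmap (i ≫ f) w₀ (toB t B')) x →
        ∃! ψ : A →ₐ[B] B', RCl.pull (wT_XTmap f w (toA t ψ)) y = y'

/-- **From the ring form to `D1Glue.Core`.** -/
theorem core_of_coreRing
    (H : ∀ (B : Type u) [CommRing B] (t : Spec (CommRingCat.of B) ⟶ S)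
      (x : RCl (wT (i ≫ f) w₀ (Over.mk t))), CoreRing f i w w₀ j hw t x)
    (T : Over S) [IsAffine T.left] (x : RCl (wT (i ≫ f) w₀ T)) : D1Glue.Core f i w w₀ j hw T x :=
  core_of_ring (F := rigF f w) (G := rigF (i ≫ f) w₀) (φ := fun T => D1Glue.φ f i w w₀ j hw T)
    (fun g x => D1Glue.φ_nat f i w w₀ j hw g x) (fun B _ t x => H B t x) T x

end Rig

/-- **(D1) from the affine core in ring form.** -/
theorem d1Stmt_of_coreRing
    (H : ∀ (k : Type u) [Field k] {X X₀ Y : Scheme.{u}} (f : X ⟶ Spec (CommRingCat.of k)) [IsProper f]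
      (i : X₀ ⟶ X) [IsClosedImmersion i] (w : Y ⟶ X) [IsClosedImmersion w], i.ker * i.ker = ⊥ →
      IsFinite (w ≫ f) → Function.Injective w.appTop.hom → Function.Injective (pullback.snd w i).appTop.hom →
      ∀ (B : Type u) [CommRing B] (t : Spec (CommRingCat.of B) ⟶ Spec (CommRingCat.of k))
        (x : RCl (wT (i ≫ f) (pullback.snd w i) (Over.mk t))),
        CoreRing f i w (pullback.snd w i) (pullback.fst w i) pullback.condition.symm t x) :
    Sqz.D1Stmt.{u} :=
  D1Glue.d1Stmt_of_core (fun k _ _ _ _ f _ i _ w _ hi hf h1 h2 T _ x =>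
    core_of_coreRing f i w (pullback.snd w i) (pullback.fst w i) pullback.condition.symm
      (fun B _ t x => H k f i w hi hf h1 h2 B t x) T x)

end Groth.Agent.Pic13.H547.CoreGlue
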