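import Groth.Agent.Pic13.H958.SolRep
import Mathlib.RingTheory.FiniteType

/-!
# Corepresentability of the solutions of `d k = - z` modulo coboundaries, with finiteness

`exists_rep`: the statement of `SolRep.exists_rep` (helper958) together with `Algebra.FiniteType B A`.
-/

set_option autoImplicit false
universe u

open TensorProduct

namespace Groth.Agent.Pic13.H547.SolRepFT

open Groth.Agent.Ega3B.KunnethAlg Groth.Agent.Pic13.H958.SolRep

variable {B : Type u} [CommRing B] {C : ℕ → Type u} [∀ p, AddCommGroup (C p)] [∀ p, Module B (C p)]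
  {d : ∀ p, C p →ₗ[B] C (p + 1)}

section Rep

variable (hd : ∀ p, d (p + 1) ∘ₗ d p = 0) (hk : ∀ p, Pure (LinearMap.ker (d p)))
  (hb : ∀ p, Pure (bdry d p))
  (h1 : Module.Free B (LinearMap.ker (d 1) ⧸ bz d 1)) (h1' : Module.Finite B (LinearMap.ker (d 1) ⧸ bz d 1))
  (h2 : Module.Free B (LinearMap.ker (d 2) ⧸ bz d 2))

include hd hk hb h1 h1' h2 in
/-- **Corepresentability of the solutions modulo coboundaries**. -/
theorem exists_rep (z : LinearMap.ker (d 2)) :
    ∃ (A : Type u) (_ : CommRing A) (_ : Algebra B A) (_ : Algebra.FiniteType B A) (κ : C 1 ⊗[B] A),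
      (d 1).rTensor A κ = -((z : C 2) ⊗ₜ (1 : A)) ∧
      ∀ (B' : Type u) [CommRing B'] [Algebra B B'] (k : C 1 ⊗[B] B'),
        (d 1).rTensor B' k = -((z : C 2) ⊗ₜ (1 : B')) →
        ∃! φ : A →ₐ[B] B', ∃ x : C 0 ⊗[B] B',
          (φ.toLinearMap.lTensor (C 1)) κ = k - (d 0).rTensor B' x := by
  let β := Module.Free.chooseBasis B (LinearMap.ker (d 1) ⧸ bz d 1)
  let γ := Module.Free.chooseBasis B (LinearMap.ker (d 2) ⧸ bz d 2)
  choose t ht using fun l => (bz d 1).mkQ_surjective (β l)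
  let 𝔞 : Ideal B := obs γ z
  obtain ⟨κ₁, hκ₁⟩ := exists_of_obs (B' := B ⧸ 𝔞) γ z (by
    change 𝔞 ≤ RingHom.ker (Ideal.Quotient.mk 𝔞)
    rw [Ideal.mk_ker])
  let r := Module.Free.ChooseBasisIndex B (LinearMap.ker (d 1) ⧸ bz d 1)
  let A := MvPolynomial r (B ⧸ 𝔞)
  let c : (B ⧸ 𝔞) →ₐ[B] A := IsScalarTower.toAlgHom B (B ⧸ 𝔞) A
  let X : r → A := fun l => MvPolynomial.X l
  -- change of rings and differentials
  have hcomm : ∀ (B₁ B₂ : Type u) [CommRing B₁] [Algebra B B₁] [CommRing B₂] [Algebra B B₂]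
      (ψ : B₁ →ₐ[B] B₂) (y : C 1 ⊗[B] B₁), (d 1).rTensor B₂ (ψ.toLinearMap.lTensor (C 1) y) =
        ψ.toLinearMap.lTensor (C 2) ((d 1).rTensor B₁ y) := by
    intro B₁ B₂ _ _ _ _ ψ y
    rw [← LinearMap.comp_apply, ← LinearMap.comp_apply, LinearMap.rTensor_comp_lTensor,
      LinearMap.lTensor_comp_rTensor]
  have hz : ∀ (B₁ B₂ : Type u) [CommRing B₁] [Algebra B B₁] [CommRing B₂] [Algebra B B₂]
      (ψ : B₁ →ₐ[B] B₂), ψ.toLinearMap.lTensor (C 2) (-((z : C 2) ⊗ₜ[B] (1 : B₁))) =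
        -((z : C 2) ⊗ₜ[B] (1 : B₂)) := by
    intro B₁ B₂ _ _ _ _ ψ
    rw [map_neg, LinearMap.lTensor_tmul, AlgHom.toLinearMap_apply, map_one]
  have hcombC : ∀ (B₁ B₂ : Type u) [CommRing B₁] [Algebra B B₁] [CommRing B₂] [Algebra B B₂]
      (ψ : B₁ →ₐ[B] B₂) (b : r → B₁), ψ.toLinearMap.lTensor (C 1) (combC t b) = combC t (fun l => ψ (b l)) := by
    intro B₁ B₂ _ _ _ _ ψ b
    unfold combC
    rw [map_sum]
    rfl
  have hlcomp : ∀ (B₁ B₂ B₃ : Type u) [CommRing B₁] [Algebra B B₁] [CommRing B₂] [Algebra B B₂]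
      [CommRing B₃] [Algebra B B₃] (ψ : B₁ →ₐ[B] B₂) (ψ' : B₂ →ₐ[B] B₃) (y : C 1 ⊗[B] B₁),
      ψ'.toLinearMap.lTensor (C 1) (ψ.toLinearMap.lTensor (C 1) y) =
        (ψ'.comp ψ).toLinearMap.lTensor (C 1) y := by
    intro B₁ B₂ B₃ _ _ _ _ _ _ ψ ψ' y
    rw [← LinearMap.comp_apply, ← LinearMap.lTensor_comp]
    rfl
  have hft : Algebra.FiniteType B A := by
    have h3 : Algebra.FiniteType B (B ⧸ 𝔞) :=
      Algebra.FiniteType.of_surjective (Ideal.Quotient.mkₐ B 𝔞) (Ideal.Quotient.mkₐ_surjective B 𝔞)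
    exact Algebra.FiniteType.trans h3 (inferInstance : Algebra.FiniteType (B ⧸ 𝔞) (MvPolynomial r (B ⧸ 𝔞)))
  refine ⟨A, inferInstance, inferInstance, hft, c.toLinearMap.lTensor (C 1) κ₁ + combC t X, ?_, ?_⟩
  · rw [map_add, d_combC, add_zero, hcomm, hκ₁, hz]
  · intro B' _ _ k hk'
    have hobs := map_obs_of_eq hd hk γ z k hk'
    let φ₁ : (B ⧸ 𝔞) →ₐ[B] B' := Ideal.Quotient.liftₐ 𝔞 (Algebra.ofId B B') (fun a ha => hobs ha)
    have hφ₁ : ∀ ψ : (B ⧸ 𝔞) →ₐ[B] B', ψ = φ₁ := by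
      intro ψ
      apply Ideal.Quotient.algHom_ext
      ext
    -- the value of any homomorphism on `κ`
    have hval : ∀ ψ : A →ₐ[B] B', ψ.toLinearMap.lTensor (C 1)
        (c.toLinearMap.lTensor (C 1) κ₁ + combC t X) =
          φ₁.toLinearMap.lTensor (C 1) κ₁ + combC t (fun l => ψ (X l)) := by
      intro ψ
      rw [map_add, hcombC, hlcomp, hφ₁ (ψ.comp c)]
    obtain ⟨b, x, hx⟩ := exists_comb hb β t ht (k - φ₁.toLinearMap.lTensor (C 1) κ₁) (by
      rw [map_sub, hk', hcomm, hκ₁, hz, sub_self])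
    let φ : A →ₐ[B] B' :=
      { MvPolynomial.eval₂Hom (φ₁ : (B ⧸ 𝔞) →+* B') b with
        commutes' := fun a => by
          change MvPolynomial.eval₂Hom (φ₁ : (B ⧸ 𝔞) →+* B') b (algebraMap B A a) = algebraMap B B' a
          have e1 : algebraMap B A a = MvPolynomial.C (algebraMap B (B ⧸ 𝔞) a) := rfl
          rw [e1, MvPolynomial.eval₂Hom_C]
          exact φ₁.commutes a }
    have hφX : ∀ l, φ (X l) = b l := fun l => MvPolynomial.eval₂Hom_X' _ _ _
    refine ⟨φ, ⟨x, ?_⟩, ?_⟩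
    · change (φ.toLinearMap.lTensor (C 1)) _ = _
      rw [hval φ]
      have e2 : (fun l => φ (X l)) = b := funext hφX
      rw [e2]
      have e3 : combC t b = k - φ₁.toLinearMap.lTensor (C 1) κ₁ - (d 0).rTensor B' x := by
        rw [hx]; abel
      rw [e3]; abel
    · rintro ψ ⟨x', hx'⟩
      change (ψ.toLinearMap.lTensor (C 1)) _ = _ at hx'
      rw [hval ψ] at hx'
      have h5 := comb_unique hd hk β t ht (fun l => ψ (X l)) b (x - x') (by
        rw [map_sub]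
        have : combC t b = k - φ₁.toLinearMap.lTensor (C 1) κ₁ - (d 0).rTensor B' x := by
          rw [hx]; abel
        rw [this]
        have h6 : combC t (fun l => ψ (X l)) = k - (d 0).rTensor B' x' -
            φ₁.toLinearMap.lTensor (C 1) κ₁ := by
          rw [← hx']; abel
        rw [h6]
        abel)
      have h7 : (ψ : A →+* B') = (φ : A →+* B') := by
        apply MvPolynomial.ringHom_ext
        · intro a
          have h8 := congrArg (fun f : (B ⧸ 𝔞) →ₐ[B] B' => f a) ((hφ₁ (ψ.comp c)).trans (hφ₁ (φ.comp c)).symm)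
          exact h8
        · intro l
          have h9 := congrFun h5 l
          exact h9.trans (hφX l).symm
      exact AlgHom.coe_ringHom_injective h7

end Rep

end Groth.Agent.Pic13.H547.SolRepFT
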