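import Groth.Agent.Pic13.H547.CoreSetup
import Groth.Agent.Pic13.H547.CoreGlue
import Groth.Agent.Pic13.H547.SolRepFT
import Groth.Agent.Pic13.H943.KCFree
import Groth.Agent.Pic13.H958.CoreAlg

/-!
# The affine core of the square-zero step

`coreRing`: the lifts of a rigidified module on `(X₀, Y₀)` over `Spec B` are represented by a `B`-algebra of finite type.
-/

set_option autoImplicit false
set_option linter.unusedSectionVars false
universe u

open CategoryTheory CategoryTheory.Limits AlgebraicGeometry TopologicalSpace Opposite TensorProduct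

namespace Groth.Agent.Pic13.H547.AffCore

open Groth.Agent Groth.Agent.VarietyB.BCAlg Groth.Agent.Ega3B.KunnethAlg
open Groth.Agent.Pic13.H602.Rig Groth.Agent.Picfga.HilbPull
open Groth.Agent.Pic13.H958.RelUnits Groth.Agent.Pic13.H958.AffLift Groth.Agent.Pic13.H958.KilBC
open Groth.Agent.Pic13.H958.Coc Groth.Agent.Pic13.H958.Ord Groth.Agent.Pic13.H958.Kil
open Groth.Agent.Pic13.H958.Lifts Groth.Agent.Pic13.H958.KMod Groth.Agent.Pic13.H958.KCBC
open Groth.Agent.Pic13.H958.KCFlat Groth.Agent.Pic13.H958.CoreAlg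
open Groth.Agent.Pic13.H547.SqzFam Groth.Agent.Pic13.H547.CoreGlue Groth.Agent.Pic13.H547.CoreSetup
open Groth.Agent.Ega3B Cube CubeData CombRes CoefSys

variable {S X X₀ Y Y₀ : Scheme.{u}} [IsAffine S] (f : X ⟶ S) (i : X₀ ⟶ X) (w : Y ⟶ X) (w₀ : Y₀ ⟶ X₀)
  (k : Y₀ ⟶ Y) (pb : IsPullback k w₀ w i) [IsClosedImmersion i] [IsClosedImmersion w]
  (hnil : i.ker * i.ker = ⊥)
  [QuasiCompact f] [IsSeparated f] [Flat f] [Flat (i ≫ f)] [Flat (w ≫ f)] [Flat (w₀ ≫ i ≫ f)]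
  (HG : ∀ p, letI := H943.FlatBC.modH f (ClSub.idealMod (i.ker ⊓ w.ker)) p
    Module.Free Γ(S, ⊤) (Coh.HH X (ClSub.idealMod (i.ker ⊓ w.ker)) p) ∧
      Module.Finite Γ(S, ⊤) (Coh.HH X (ClSub.idealMod (i.ker ⊓ w.ker)) p))
  (hI : Inj (i ≫ f) w₀)

include HG hnil hI in
/-- **The affine core.** -/
theorem coreRing {B : Type u} [CommRing B] (t : Spec (CommRingCat.of B) ⟶ S)
    (x : RCl (wT (i ≫ f) w₀ (Over.mk t))) : CoreRing f i w w₀ k pb.w.symm t x := by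
  obtain ⟨R₀, rfl⟩ := x.exists_rep
  obtain ⟨n, U, e₀, g, z, hcov, hU, hUb, he₀, hz, htr₀, hδz⟩ := exists_setup_rig pb hnil t R₀
  have q : ∀ T : Over S, Quad (wT f i T) (wT f w T) (wT (i ≫ f) w₀ T) (kT f i w w₀ k pb T) :=
    fun T => quad pb hnil T
  have hfr := fun p => H943.KCFree.free_KC f i w w₀ k pb hnil HG t (PicF.XTmap f (𝟙 (Over.mk t))) U hcov hUb p
  obtain ⟨hk, hb⟩ := pure_all (a₁ := pullback.snd f t) (q (Over.mk t)) U hUb (fun p => by
    have := (hfr p).1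
    infer_instance)
  let z' : LinearMap.ker (dK (pullback.snd f t) (PicF.XTmap f (𝟙 (Over.mk t))) (wT f i (Over.mk t))
    (wT f w (Over.mk t)) U 2) := ⟨z, hδz⟩
  obtain ⟨A, _, _, hft, κ, hκ, huniv⟩ := SolRepFT.exists_rep
    (C := fun n => KC (pullback.snd f t) (PicF.XTmap f (𝟙 (Over.mk t))) (wT f i (Over.mk t))
      (wT f w (Over.mk t)) U n)
    (d := fun n => dK (pullback.snd f t) (PicF.XTmap f (𝟙 (Over.mk t))) (wT f i (Over.mk t))
      (wT f w (Over.mk t)) U n)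
    (dK_comp _ _ _ _ U) hk hb (hfr 1).1 (hfr 1).2 (hfr 2).1 z'
  -- the data over `B`-algebras
  have e : ∀ (B' : Type u) [CommRing B'] [Algebra B B'], toB t B' ≫ 𝟙 (Over.mk t) = toB t B' :=
    fun B' _ _ => Category.comp_id _
  have hbc : ∀ (B' : Type u) [CommRing B'] [Algebra B B'] (n : ℕ), Function.Bijective
      (cb (KS (pm f w (e B')) (pm₀ f i w₀ (e B')) (hp (e B')) (H_sq (w := w) (e B') rfl).w U n)) :=
    fun B' _ _ n => bijective_cb_KS (q (Over.mk t)) (pm f w (e B')) (pm₀ f i w₀ (e B')) (hp (e B'))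
      (H_sq (e B') rfl).w (H_sq (e B') rfl) (H_sq₀ (e B') rfl) (HY_sq (e B') rfl) U hUb n
  have hUa : ∀ (B' : Type u) [CommRing B'] [Algebra B B'] (a : Fin n),
      IsAffineOpen (PicF.XTmap f (toB t B') ⁻¹ᵁ U a) := by
    intro B' _ _ a
    have h1 : IsAffineHom (PicF.XTmap f (toB t B')) :=
      MorphismProperty.of_isPullback (isPullback_XTmap f (toB t B')).flip
        (inferInstanceAs (IsAffineHom (sp B B')))
    have h2 : IsAffineOpen (U a) := by
      have := hU {a} (Finset.singleton_nonempty a)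
      rwa [Finset.inf_singleton] at this
    exact h2.preimage _
  -- the universal lift
  obtain ⟨R₀A, ⟨A₀⟩⟩ := exists_pull R₀ (wT_XTmap (i ≫ f) w₀ (toB t A))
  obtain ⟨RA, ⟨αA⟩, hasA⟩ := exists_of_cochain (q (Over.mk t)) (q (ob t A)) (pm f w (e A)) (pm₀ f i w₀ (e A))
    (hp (e A)) hz A₀ he₀ htr₀ hcov
    (cbK (pm f w (e A)) (pm₀ f i w₀ (e A)) (hp (e A)) (H_sq (w := w) (e A) rfl).w U 1 κ)
    (δ_of_eq (pm f w (e A)) (pm₀ f i w₀ (e A)) (hp (e A)) (H_sq (w := w) (e A) rfl).w U z κ hκ)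
  refine ⟨A, inferInstance, inferInstance, RA.cls, hft, ?_, ?_⟩
  · rw [A₀.pull_eq]
    exact (resI_cls_iff_quad pb hnil (ob t A) RA R₀A).2 ⟨αA⟩
  · intro B' _ _ y' hy'
    obtain ⟨R', rfl⟩ := y'.exists_rep
    obtain ⟨R₀B, ⟨B₀⟩⟩ := exists_pull R₀ (wT_XTmap (i ≫ f) w₀ (toB t B'))
    rw [B₀.pull_eq] at hy'
    obtain ⟨αB⟩ := (resI_cls_iff_quad pb hnil (ob t B') R' R₀B).1 hy'
    obtain ⟨k', hasB, hk'⟩ := exists_has (q (Over.mk t)) (q (ob t B')) (pm f w (e B')) (pm₀ f i w₀ (e B'))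
      (hp (e B')) hz B₀ he₀ htr₀ (hUa B') αB
    obtain ⟨κ', rfl, hκ'⟩ := exists_of_δ (pm f w (e B')) (pm₀ f i w₀ (e B')) (hp (e B'))
      (H_sq (w := w) (e B') rfl).w U (hbc B') z k' hk'
    -- the key equivalence
    have key : ∀ ψ : A →ₐ[B] B', RCl.pull (wT_XTmap f w (toA t ψ)) RA.cls = R'.cls ↔
        ∃ x : KC (pullback.snd f t) (PicF.XTmap f (𝟙 (Over.mk t))) (wT f i (Over.mk t))
          (wT f w (Over.mk t)) U 0 ⊗[B] B', (ψ.toLinearMap.lTensor _) κ = κ' -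
            (dK (pullback.snd f t) (PicF.XTmap f (𝟙 (Over.mk t))) (wT f i (Over.mk t))
              (wT f w (Over.mk t)) U 0).rTensor B' x := by
      intro ψ
      have eψ : toA t ψ ≫ toB t A = toB t B' := toA_toB t ψ
      obtain ⟨R'', ⟨βA⟩⟩ := exists_pull RA (wT_XTmap f w (toA t ψ))
      rw [βA.pull_eq, RB.cls_eq_iff]
      have h1 := Has.arr (q (ob t A)) (q (ob t B')) (pm f w (e A)) (pm f w eψ) (pm₀ f i w₀ eψ) (hp eψ)
        (pm f w (e B')) (by
          change PicF.XTmap f (toA t ψ) ≫ PicF.XTmap f (toB t A) = PicF.XTmap f (toB t B')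
          rw [← XTmap_comp, eψ]) βA hasA
      rw [cbK_natural (pm f w (e A)) (pm₀ f i w₀ (e A)) (hp (e A)) (pm f w eψ) (pm₀ f i w₀ eψ) (hp eψ)
        (pm f w (e B')) (pm₀ f i w₀ (e B')) (hp (e B')) (by
          change PicF.XTmap f (toA t ψ) ≫ PicF.XTmap f (toB t A) = PicF.XTmap f (toB t B')
          rw [← XTmap_comp, eψ]) (H_sq (w := w) (e A) rfl).w (H_sq (w := w) (e B') rfl).w ψ
          (isPullback_XTmap f (toA t ψ)).w U 1 κ] at h1
      rw [rel_iff_of_has (q (Over.mk t)) (q (ob t B')) (pm f w (e B')) (pm₀ f i w₀ (e B')) (hp (e B')) hcov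
        (fun h hh => eq_zero_of_inj hI (ob t B') _ hcov h hh) h1 hasB,
        exists_iff (pm f w (e B')) (pm₀ f i w₀ (e B')) (hp (e B')) (H_sq (w := w) (e B') rfl).w U (hbc B')]
      constructor
      · rintro ⟨y, hy⟩
        refine ⟨-y, ?_⟩
        rw [map_neg, hy]
        abel
      · rintro ⟨y, hy⟩
        refine ⟨-y, ?_⟩
        rw [map_neg, hy]
        abel
    obtain ⟨ψ, hψ, huniq⟩ := huniv B' κ' hκ'
    exact ⟨ψ, (key ψ).2 hψ, fun ψ' hψ' => huniq ψ' ((key ψ').1 hψ')⟩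

end Groth.Agent.Pic13.H547.AffCore
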