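import Groth.Agent.Picfga.OverRep
import Groth.Agent.Pic13.H955.FinDesc
import Mathlib.AlgebraicGeometry.Morphisms.Affine
import Mathlib.AlgebraicGeometry.Morphisms.FiniteType

/-!
# Relative representability by affine morphisms from affine test objects

`exists_isUniv`: a Zariski sheaf `F` with a natural map to a representable functor `G`, such that for every affine
`T` and `x ∈ G(T)` the lifts of `x` to `F` (tested on affine schemes) are represented by an affine scheme of finite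
type over `T`, is representable by a scheme affine and locally of finite type over the scheme representing `G`.
-/

set_option autoImplicit false
universe v w u

open CategoryTheory CategoryTheory.Limits AlgebraicGeometry Opposite
open Groth.Agent.Picfga.OverRep

namespace Groth.Agent.Pic13.H547.AffGlue

variable {S : Scheme.{u}} {F : (Over S)ᵒᵖ ⥤ Type w}

/-- The cover of an object by the members of the affine cover of the underlying scheme. -/
noncomputable def affCov (T : Over S) : Cov T where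
  ι := T.left
  V t := Over.mk ((T.left.affineCover.f (T.left.affineCover.idx t)) ≫ T.hom)
  j t := Over.homMk (T.left.affineCover.f (T.left.affineCover.idx t)) rfl
  isOpen t := inferInstanceAs (IsOpenImmersion (T.left.affineCover.f _))
  covers t := by
    obtain ⟨y, hy⟩ := T.left.affineCover.covers t
    exact ⟨t, y, hy⟩

instance (T : Over S) (t : (affCov T).ι) : IsAffine ((affCov T).V t).left :=
  inferInstanceAs (IsAffine (T.left.affineCover.X _))

/-- Relative universality of `ξ ∈ F(A)` over `a : A ⟶ V`, `j : V ⟶ K`, for a natural map `π` from `F` to `K`. -/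
def RelU {K : Over S} (π : ∀ T : Over S, F.obj (op T) → (T ⟶ K)) {V A : Over S} (j : V ⟶ K) (a : A ⟶ V)
    (ξ : F.obj (op A)) : Prop :=
  π A ξ = a ≫ j ∧ ∀ (T : Over S) (v : T ⟶ V) (x : F.obj (op T)), π T x = v ≫ j →
    ∃! g : T ⟶ A, g ≫ a = v ∧ F.map g.op ξ = x

/-- Relative universality may be tested on affine schemes. -/
theorem relU_of_affine (hF : IsZarSheaf F) {K : Over S} (π : ∀ T : Over S, F.obj (op T) → (T ⟶ K))
    (nat : ∀ {T T' : Over S} (g : T' ⟶ T) (x : F.obj (op T)), π T' (F.map g.op x) = g ≫ π T x)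
    {V A : Over S} (j : V ⟶ K) (a : A ⟶ V) (ξ : F.obj (op A)) (hξ : π A ξ = a ≫ j)
    (h : ∀ (T : Over S) [IsAffine T.left] (v : T ⟶ V) (x : F.obj (op T)), π T x = v ≫ j →
      ∃! g : T ⟶ A, g ≫ a = v ∧ F.map g.op ξ = x) : RelU π j a ξ := by
  refine ⟨hξ, fun T v x hx => ?_⟩
  let 𝒰 := affCov T
  have hx' : ∀ i, π _ (F.map (𝒰.j i).op x) = (𝒰.j i ≫ v) ≫ j := fun i => by
    rw [nat, hx, Category.assoc]
  choose g hg hgu using fun i => h (𝒰.V i) (𝒰.j i ≫ v) (F.map (𝒰.j i).op x) (hx' i)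
  have compat : ∀ (i k : 𝒰.ι) (W : Over S) (p : W ⟶ 𝒰.V i) (q : W ⟶ 𝒰.V k), p ≫ 𝒰.j i = q ≫ 𝒰.j k →
      p ≫ g i = q ≫ g k := by
    intro i k W p q hpq
    apply hom_ext_cover W A (affCov W)
    intro l
    let r := (affCov W).j l
    have e0 : ∀ (i : 𝒰.ι) (p : W ⟶ 𝒰.V i), F.map (r ≫ p ≫ g i).op ξ = F.map (r ≫ (p ≫ 𝒰.j i)).op x := by
      intro i p
      rw [← Category.assoc, map_comp_apply, (hg i).2, ← map_comp_apply, Category.assoc]
    have e0' : ∀ (i : 𝒰.ι) (p : W ⟶ 𝒰.V i), (r ≫ p ≫ g i) ≫ a = r ≫ (p ≫ 𝒰.j i) ≫ v := by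
      intro i p
      rw [Category.assoc, Category.assoc, (hg i).1, Category.assoc]
    have e1 : F.map (r ≫ p ≫ g i).op ξ = F.map (r ≫ q ≫ g k).op ξ := by
      rw [e0, e0, hpq]
    have e2 : (r ≫ p ≫ g i) ≫ a = (r ≫ q ≫ g k) ≫ a := by
      rw [e0', e0', hpq]
    refine (h ((affCov W).V l) ((r ≫ q ≫ g k) ≫ a) (F.map (r ≫ q ≫ g k).op ξ) ?_).unique ⟨e2, e1⟩ ⟨rfl, rfl⟩
    rw [nat, hξ]
    simp only [Category.assoc]
  obtain ⟨G, hG⟩ := glue_hom T A 𝒰 g compat
  refine ⟨G, ⟨?_, ?_⟩, ?_⟩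
  · apply hom_ext_cover T V 𝒰
    intro i
    rw [← Category.assoc, hG, (hg i).1]
  · apply hF.ext_cover T 𝒰
    intro i
    rw [← map_comp_apply, hG, (hg i).2]
  · rintro G' ⟨h1, h2⟩
    apply hom_ext_cover T A 𝒰
    intro i
    rw [hG]
    apply hgu
    refine ⟨?_, ?_⟩
    · rw [Category.assoc, h1]
    · rw [map_comp_apply, h2]

section glue

variable {K : Over S} (π : ∀ T : Over S, F.obj (op T) → (T ⟶ K))
  (nat : ∀ {T T' : Over S} (g : T' ⟶ T) (x : F.obj (op T)), π T' (F.map g.op x) = g ≫ π T x)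

/-- The inclusion of an open subscheme of `K`. -/
noncomputable abbrev jV (V : K.left.Opens) : Over.mk (V.ι ≫ K.hom) ⟶ K := res K V

/-- Factorization through an open subscheme. -/
lemma exists_fac {T : Over S} (g : T ⟶ K) (V : K.left.Opens) (h : ∀ t : T.left, g.left t ∈ V) :
    ∃ v : T ⟶ Over.mk (V.ι ≫ K.hom), v ≫ jV V = g := by
  have hr : Set.range g.left ⊆ Set.range V.ι := by
    rintro _ ⟨t, rfl⟩
    rw [Scheme.Opens.range_ι]
    exact h t
  refine ⟨Over.homMk (IsOpenImmersion.lift V.ι g.left hr) ?_, ?_⟩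
  · change _ ≫ V.ι ≫ K.hom = T.hom
    rw [IsOpenImmersion.lift_fac_assoc, Over.w]
  · ext1
    exact IsOpenImmersion.lift_fac _ _ _

lemma jV_mono (V : K.left.Opens) {T : Over S} {a b : T ⟶ Over.mk (V.ι ≫ K.hom)} (h : a ≫ jV V = b ≫ jV V) :
    a = b := by
  ext1
  rw [← cancel_mono V.ι]
  exact congrArg CommaMorphism.left h

/-- A relative chart over an affine open of `K`. -/
structure Chart (V : K.left.Opens) where
  /-- representing object -/
  A : Over S
  /-- the affine map -/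
  a : A ⟶ Over.mk (V.ι ≫ K.hom)
  /-- the universal element -/
  ξ : F.obj (op A)
  univ : RelU π (jV V) a ξ

include nat in
/-- Charts of `F` from relative charts. -/
theorem exists_charts (C : ∀ V : K.left.affineOpens, Chart π V.1) : ∃ D : Charts F,
    (D.ι = K.left.affineOpens) := by
  refine ⟨{ ι := K.left.affineOpens, X := fun V => (C V).A, ξ := fun V => (C V).ξ, mono := ?_, isOpen := ?_,
            covers := ?_ }, rfl⟩
  · intro V T a b hab
    have h1 : (a ≫ (C V).a) ≫ jV V.1 = (b ≫ (C V).a) ≫ jV V.1 := by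
      rw [Category.assoc, Category.assoc, ← (C V).univ.1, ← nat, ← nat, hab]
    have h2 := jV_mono V.1 h1
    exact ((C V).univ.2 T (b ≫ (C V).a) (F.map b.op (C V).ξ) (by
      rw [nat, (C V).univ.1, Category.assoc])).unique ⟨h2, hab⟩ ⟨rfl, rfl⟩
  · intro V T x T' g h hgh t
    refine ⟨(π T x).left ⁻¹ᵁ V.1, ?_⟩
    obtain ⟨v, hv⟩ := exists_fac (res T ((π T x).left ⁻¹ᵁ V.1) ≫ π T x) V.1 (fun t => t.2)
    obtain ⟨k, ⟨hk1, hk2⟩, -⟩ := (C V).univ.2 _ v (F.map (res T ((π T x).left ⁻¹ᵁ V.1)).op x) (by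
      rw [nat, hv])
    refine ⟨k, ?_, hk2⟩
    have h1 : g ≫ π T x = (h ≫ (C V).a) ≫ jV V.1 := by
      rw [← nat, ← hgh, nat, (C V).univ.1, Category.assoc]
    have h2 : (π T x).left (g.left t) = V.1.ι ((h ≫ (C V).a).left t) :=
      congrArg (fun m : T' ⟶ K => m.left t) h1
    change (π T x).left (g.left t) ∈ V.1
    rw [h2]
    exact ((h ≫ (C V).a).left t).2
  · intro T x t
    obtain ⟨_, ⟨V, hV, rfl⟩, hxV, -⟩ :=
      K.left.isBasis_affineOpens.exists_subset_of_mem_open (Set.mem_univ ((π T x).left t)) isOpen_univ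
    obtain ⟨v, hv⟩ := exists_fac (res T ((π T x).left ⁻¹ᵁ V) ≫ π T x) V (fun t => t.2)
    obtain ⟨k, ⟨hk1, hk2⟩, -⟩ := (C ⟨V, hV⟩).univ.2 _ v (F.map (res T ((π T x).left ⁻¹ᵁ V)).op x) (by
      rw [nat, hv])
    exact ⟨⟨V, hV⟩, (π T x).left ⁻¹ᵁ V, k, hxV, hk2⟩

include nat in
/-- The chart is the pull back of the representing scheme. -/
theorem isPullback_chart {V : K.left.Opens} (C : Chart π V) {P : Over S} {Z : F.obj (op P)}
    (hZ : ∀ (T : Over S) (x : F.obj (op T)), ∃! g : T ⟶ P, F.map g.op Z = x) :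
    ∃ g : C.A ⟶ P, IsPullback g C.a (π P Z) (jV V) := by
  obtain ⟨g, hg, -⟩ := hZ _ C.ξ
  have hg' : F.map g.op Z = C.ξ := hg
  refine ⟨g, ⟨⟨?_⟩, ⟨PullbackCone.IsLimit.mk _ (fun s => ((C.univ.2 s.pt s.snd (F.map s.fst.op Z)
    (by rw [nat, s.condition])).exists).choose) ?_ ?_ ?_⟩⟩⟩
  · rw [← nat, hg', C.univ.1]
  · intro s
    have h1 := ((C.univ.2 s.pt s.snd (F.map s.fst.op Z) (by rw [nat, s.condition])).exists).choose_spec
    refine (hZ s.pt (F.map s.fst.op Z)).unique ?_ rfl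
    rw [map_comp_apply, hg', h1.2]
  · intro s
    exact (((C.univ.2 s.pt s.snd (F.map s.fst.op Z) (by rw [nat, s.condition])).exists).choose_spec).1
  · intro s m hm1 hm2
    refine (C.univ.2 s.pt s.snd (F.map s.fst.op Z) (by rw [nat, s.condition])).unique ⟨hm2, ?_⟩
      ((C.univ.2 s.pt s.snd (F.map s.fst.op Z) (by rw [nat, s.condition])).exists).choose_spec
    rw [← hg', ← map_comp_apply, hm1]

end glue

/-- **Relative representability by affine morphisms from affine test objects.** -/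
theorem exists_isUniv {S : Scheme.{u}} {F : (Over S)ᵒᵖ ⥤ Type w} {G : (Over S)ᵒᵖ ⥤ Type v}
    (φ : ∀ T : Over S, F.obj (op T) → G.obj (op T))
    (nat : ∀ {T T' : Over S} (g : T' ⟶ T) (x : F.obj (op T)), φ T' (F.map g.op x) = G.map g.op (φ T x))
    (hF : IsZarSheaf F) {P0 : Over S} {ξ0 : G.obj (op P0)} (h0 : H955.FinDesc.IsUniv G P0 ξ0)
    (h : ∀ (T : Over S) [IsAffine T.left] (x : G.obj (op T)), ∃ (A : Over S) (a : A ⟶ T) (y : F.obj (op A)),
      IsAffine A.left ∧ LocallyOfFiniteType a.left ∧ φ A y = G.map a.op x ∧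
      ∀ (T' : Over S) [IsAffine T'.left] (b : T' ⟶ T) (y' : F.obj (op T')), φ T' y' = G.map b.op x →
        ∃! h : T' ⟶ A, h ≫ a = b ∧ F.map h.op y = y') :
    ∃ (P : Over S) (ξ : F.obj (op P)) (p : P ⟶ P0), H955.FinDesc.IsUniv F P ξ ∧ G.map p.op ξ0 = φ P ξ ∧
      IsAffineHom p.left ∧ LocallyOfFiniteType p.left := by
  choose π hπ hπu using fun (T : Over S) (x : F.obj (op T)) => h0 T (φ T x)
  have hπ' : ∀ (T : Over S) (x : F.obj (op T)), G.map (π T x).op ξ0 = φ T x := hπ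
  have hπu' : ∀ (T : Over S) (x : F.obj (op T)) (g : T ⟶ P0), G.map g.op ξ0 = φ T x → g = π T x := hπu
  have natπ : ∀ {T T' : Over S} (g : T' ⟶ T) (x : F.obj (op T)), π T' (F.map g.op x) = g ≫ π T x := by
    intro T T' g x
    refine (hπu' _ _ _ ?_).symm
    rw [map_comp_apply, hπ', nat]
  have hC : ∀ V : P0.left.affineOpens, ∃ C : Chart π V.1, IsAffine C.A.left ∧ LocallyOfFiniteType C.a.left := by
    intro V
    have hV : IsAffine (Over.mk (V.1.ι ≫ P0.hom)).left := V.2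
    obtain ⟨A, a, y, hA, ha, hy, hu⟩ := h (Over.mk (V.1.ι ≫ P0.hom)) (G.map (jV V.1).op ξ0)
    have hy' : π A y = a ≫ jV V.1 := by
      refine (hπu' _ _ _ ?_).symm
      rw [map_comp_apply, hy]
    refine ⟨⟨A, a, y, relU_of_affine hF π natπ (jV V.1) a y hy' ?_⟩, hA, ha⟩
    intro T hT b y' hb
    apply hu T b y'
    rw [← hπ' T y', hb, map_comp_apply]
  choose C hCA hCa using hC
  obtain ⟨D, -⟩ := exists_charts π natπ C
  obtain ⟨P, Z, hZ⟩ := D.exists_universal hF
  have key : ∀ V : P0.left.affineOpens, ∃ e : (C V).A.left ≅ ((π P Z).left ⁻¹ᵁ V.1).toScheme,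
      e.hom ≫ ((π P Z).left ∣_ V.1) = (C V).a.left := by
    intro V
    obtain ⟨g, hg⟩ := isPullback_chart π natπ (C V) hZ
    have h1 : IsPullback g.left (C V).a.left (π P Z).left V.1.ι := hg.map (Over.forget S)
    have h2 := (isPullback_morphismRestrict (π P Z).left V.1).flip
    exact ⟨h1.isoIsPullback _ _ h2, h1.isoIsPullback_hom_snd _ _ h2⟩
  refine ⟨P, Z, π P Z, hZ, hπ' _ _, ?_, ?_⟩
  · rw [IsZariskiLocalAtTarget.iff_of_iSup_eq_top (P := @IsAffineHom) (fun V : P0.left.affineOpens => V.1)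
      (iSup_affineOpens_eq_top P0.left)]
    intro V
    obtain ⟨e, he⟩ := key V
    rw [← MorphismProperty.cancel_left_of_respectsIso (P := @IsAffineHom) e.hom, he]
    have h1 : IsAffine (C V).A.left := hCA V
    have h2 : IsAffine V.1.toScheme := V.2
    exact isAffineHom_of_isAffine (X := (C V).A.left) (Y := V.1.toScheme) (C V).a.left
  · rw [IsZariskiLocalAtTarget.iff_of_iSup_eq_top (P := @LocallyOfFiniteType)
      (fun V : P0.left.affineOpens => V.1) (iSup_affineOpens_eq_top P0.left)]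
    intro V
    obtain ⟨e, he⟩ := key V
    rw [← MorphismProperty.cancel_left_of_respectsIso (P := @LocallyOfFiniteType) e.hom, he]
    exact hCa V

end Groth.Agent.Pic13.H547.AffGlue
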