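import Groth.Agent.Pic13.H943.CF
import Groth.Agent.FlatA.SteinNoeth
import Mathlib.AlgebraicGeometry.Noetherian

/-!
# Proper schemes over a field are cohomologically flat in degree zero

* `isPushout_of_flat`: `Γ(X_T) = Γ(X) ⊗ Γ(T)` for `X ⟶ S` quasi-compact and quasi-separated, `S` affine and `T ⟶ S`
  flat with `T` affine;
* `cf_of_field`: `H943.CF f` for `f : X ⟶ Spec k` proper.
-/

set_option autoImplicit false
universe u

open CategoryTheory CategoryTheory.Limits AlgebraicGeometry

namespace Groth.Agent.Pic13.H547.CFField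

/-- A morphism with flat base change: `Γ(X_T) = Γ(X) ⊗ Γ(T)` for `T` affine and flat. -/
theorem isPushout_of_flat {X S : Scheme.{u}} (f : X ⟶ S) [IsAffine S] [QuasiCompact f] [QuasiSeparated f]
    (T : Over S) [IsAffine T.left] [Flat T.hom] :
    IsPushout f.appTop T.hom.appTop (pullback.fst f T.hom).appTop (pullback.snd f T.hom).appTop := by
  have hc : CompactSpace X := QuasiCompact.compactSpace_of_compactSpace f
  have hq : QuasiSeparatedSpace X := quasiSeparatedSpace_of_quasiSeparated f
  have h := isIso_pushoutSection_of_isQuasiSeparated_of_flat_right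
    (IsPullback.of_hasPullback f T.hom) (US := ⊤) (UT := ⊤) (UX := ⊤) (UY := ⊤) le_top le_top (by simp)
    (isAffineOpen_top S) (isAffineOpen_top T.left) isCompact_univ isQuasiSeparated_univ
  have h2 := (isIso_pushoutSection_iff (IsPullback.of_hasPullback f T.hom) (US := ⊤) (UT := ⊤) (UX := ⊤)
    (UY := ⊤) le_top le_top (by simp)).mp h
  have e1 : f.appLE ⊤ ⊤ le_top = f.appTop := Scheme.Hom.appLE_eq_app f
  have e2 : T.hom.appLE ⊤ ⊤ le_top = T.hom.appTop := Scheme.Hom.appLE_eq_app T.hom
  have e3 : (pullback.fst f T.hom).appLE ⊤ ⊤ le_top = (pullback.fst f T.hom).appTop :=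
    Scheme.Hom.appLE_eq_app _
  have e4 : (pullback.snd f T.hom).appLE ⊤ ⊤ le_top = (pullback.snd f T.hom).appTop :=
    Scheme.Hom.appLE_eq_app _
  rw [← e1, ← e2, ← e3, ← e4]
  exact h2

lemma projective_of_isField (R M : Type*) [CommRing R] (h : IsField R) [AddCommGroup M] [Module R M] :
    Module.Projective R M := by
  let _ := h.toField
  exact Module.Projective.of_free

lemma isField_Γ (k : Type u) [Field k] : IsField Γ(Spec (CommRingCat.of k), ⊤) :=
  ((Scheme.ΓSpecIso (CommRingCat.of k)).commRingCatIsoToRingEquiv.toMulEquiv).isField (Field.toIsField k)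

/-- Proper schemes over a field are cohomologically flat in degree zero. -/
theorem cf_of_field (k : Type u) [Field k] {X : Scheme.{u}} (f : X ⟶ Spec (CommRingCat.of k)) [IsProper f] :
    H943.CF f := by
  have hF : IsField Γ(Spec (CommRingCat.of k), ⊤) := isField_Γ k
  have hN : IsNoetherianRing Γ(Spec (CommRingCat.of k), ⊤) := by
    let _ := hF.toField
    infer_instance
  refine ⟨inferInstance, FlatA.SteinNoeth.finite_appTop f, ?_, fun T hT => isPushout_of_flat f T⟩
  let _ : Algebra Γ(Spec (CommRingCat.of k), ⊤) Γ(X, ⊤) := f.appTop.hom.toAlgebra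
  exact projective_of_isField _ _ hF

end Groth.Agent.Pic13.H547.CFField
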