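import Groth.Agent.Pic13.H547.SqzFam
import Groth.Agent.Pic13.H958.Lifts

/-!
# Choice of a covering and of cocycles for the affine core of the square-zero step
-/

set_option autoImplicit false
set_option linter.unusedSectionVars false
universe u

open CategoryTheory CategoryTheory.Limits AlgebraicGeometry TopologicalSpace Opposite

namespace Groth.Agent.Pic13.H547.CoreSetup

open Groth.Agent Groth.Agent.Fdesc.LocGen
open Groth.Agent.Pic13.H602.Rig Groth.Agent.Picfga.HilbPull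
open Groth.Agent.Pic13.H958.RelUnits Groth.Agent.Pic13.H958.AffLift Groth.Agent.Pic13.H958.KilBC
open Groth.Agent.Pic13.H958.Coc Groth.Agent.Pic13.H958.Ord Groth.Agent.Pic13.H958.Kil
open Groth.Agent.Pic13.H958.Lifts
open Groth.Agent.Ega3B Cube CubeData CombRes CoefSys

lemma isAffineOpen_finsetInf {Z : Scheme.{u}} [Z.IsSeparated] {ι : Type} (U : ι → Z.Opens)
    (hU : ∀ a, IsAffineOpen (U a)) (s : Finset ι) (hs : s.Nonempty) : IsAffineOpen (s.inf U) := by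
  classical
  induction hs using Finset.Nonempty.cons_induction with
  | singleton a => rw [Finset.inf_singleton]; exact hU a
  | cons a s ha hs ih => rw [Finset.inf_cons]; exact (hU a).inf ih

/-- Covering and cocycles. -/
theorem exists_setup {W Z Z₀ Y Y₀ : Scheme.{u}} {i : Z₀ ⟶ Z} {σ : Y ⟶ Z} {σ₀ : Y₀ ⟶ Z₀} {k : Y₀ ⟶ Y}
    (q : Quad i σ σ₀ k) (b : Z ⟶ W) [IsIso b] [CompactSpace Z] [W.IsSeparated] (R₀ : RB σ₀) :
    ∃ (n : ℕ) (U : Fin n → W.Opens) (e₀ : ∀ a, Γ(R₀.L, (i ≫ b) ⁻¹ᵁ U a))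
      (g : (cech U).K 1 (relUnits b σ).obj) (z : (cech U).K 2 (KP b i σ)),
      (⨆ a, U a = ⊤) ∧ (∀ s : Finset (Fin n), s.Nonempty → IsAffineOpen (s.inf U)) ∧
      (∀ s : Finset (Fin n), s.Nonempty → IsAffineOpen (b ⁻¹ᵁ (s.inf U))) ∧
      (∀ a, Rigid R₀ (e₀ a)) ∧ (cech U).δ 1 _ g = (cech U).Kmap 2 (expP q b) z ∧
      Tr (i ≫ b) σ₀ U R₀ e₀ ((cech U).Kmap 1 (relMap (q.pair b)).hom g) ∧ (cech U).δ 2 _ z = 0 := by
  obtain ⟨n, U', hcov, haff, e', he'⟩ := Groth.Agent.Pic13.H958.LocRig.exists_cover q R₀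
  let U : Fin n → W.Opens := fun a => inv b ⁻¹ᵁ U' a
  have hbU : ∀ a, b ⁻¹ᵁ U a = U' a := by
    intro a
    change (b ≫ inv b) ⁻¹ᵁ U' a = U' a
    rw [IsIso.hom_inv_id]
    rfl
  have hU : ∀ a, IsAffineOpen (U a) := fun a => (haff a).preimage (inv b)
  have hle : ∀ a, (i ≫ b) ⁻¹ᵁ U a ≤ i ⁻¹ᵁ U' a := fun a => by
    change i ⁻¹ᵁ b ⁻¹ᵁ U a ≤ _
    rw [hbU]
  have hUs := isAffineOpen_finsetInf U hU
  have hUb : ∀ s : Finset (Fin n), s.Nonempty → IsAffineOpen (b ⁻¹ᵁ (s.inf U)) :=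
    fun s hs => (hUs s hs).preimage b
  let e₀ : ∀ a, Γ(R₀.L, (i ≫ b) ⁻¹ᵁ U a) := fun a => Fdesc.LocGen.res R₀.L (hle a) (e' a)
  have he₀ : ∀ a, Rigid R₀ (e₀ a) := fun a => (he' a).res (hle a)
  obtain ⟨c, hc, htr⟩ := exists_tr' (b := i ≫ b) (U := U) e₀ he₀
  obtain ⟨g, rfl⟩ := Kmap_relMap_surjective q b U 1 hUb c
  obtain ⟨z, hz⟩ := exists_Kmap_exp q b U 2 ((cech U).δ 1 _ g) (by
    rw [← Data.δ_naturality]
    exact hc)
  refine ⟨n, U, e₀, g, z, ?_, hUs, hUb, he₀, hz.symm, htr, ?_⟩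
  · have h1 : (⨆ a, U a) = inv b ⁻¹ᵁ (⨆ a, U' a) := (Scheme.Hom.preimage_iSup _ _).symm
    rw [h1, hcov]
    rfl
  · apply Kmap_exp_injective q b U 3
    rw [← Data.δ_naturality, hz, map_zero]
    exact (cech U).δ_δ 1 g

section Rig

variable {S X X₀ Y Y₀ : Scheme.{u}} {f : X ⟶ S} {i : X₀ ⟶ X} {w : Y ⟶ X} {w₀ : Y₀ ⟶ X₀} {k : Y₀ ⟶ Y}

instance isIso_XTmap_id (T : Over S) : IsIso (PicF.XTmap f (𝟙 T)) := by
  rw [XTmap_id]
  infer_instance

lemma isSeparated_XT [IsSeparated f] (T : Over S) [T.left.IsSeparated] : (PicF.XT f T).IsSeparated := by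
  have h : IsSeparated (pullback.snd f T.hom ≫ terminal.from T.left) := inferInstance
  exact ⟨by rwa [← terminal.hom_ext (pullback.snd f T.hom ≫ terminal.from T.left)
    (terminal.from (PicF.XT f T))]⟩

lemma compactSpace_XT [QuasiCompact f] (T : Over S) [CompactSpace T.left] : CompactSpace (PicF.XT f T) :=
  QuasiCompact.compactSpace_of_compactSpace (pullback.snd f T.hom)

variable (pb : IsPullback k w₀ w i) [IsClosedImmersion i] [IsClosedImmersion w] (hnil : i.ker * i.ker = ⊥)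

/-- **Covering and cocycles for the rigidified modules.** -/
theorem exists_setup_rig [IsSeparated f] [QuasiCompact f] {B : Type u} [CommRing B]
    (t : Spec (CommRingCat.of B) ⟶ S) (R₀ : RB (wT (i ≫ f) w₀ (Over.mk t))) :
    ∃ (n : ℕ) (U : Fin n → (PicF.XT f (Over.mk t)).Opens)
      (e₀ : ∀ a, Γ(R₀.L, (wT f i (Over.mk t) ≫ PicF.XTmap f (𝟙 (Over.mk t))) ⁻¹ᵁ U a))
      (g : (cech U).K 1 (relUnits (PicF.XTmap f (𝟙 (Over.mk t))) (wT f w (Over.mk t))).obj)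
      (z : (cech U).K 2 (KP (PicF.XTmap f (𝟙 (Over.mk t))) (wT f i (Over.mk t)) (wT f w (Over.mk t)))),
      (⨆ a, U a = ⊤) ∧ (∀ s : Finset (Fin n), s.Nonempty → IsAffineOpen (s.inf U)) ∧
      (∀ s : Finset (Fin n), s.Nonempty → IsAffineOpen (PicF.XTmap f (𝟙 (Over.mk t)) ⁻¹ᵁ (s.inf U))) ∧
      (∀ a, Rigid R₀ (e₀ a)) ∧
      (cech U).δ 1 _ g = (cech U).Kmap 2 (expP (SqzFam.quad pb hnil (Over.mk t)) _) z ∧
      Tr (wT f i (Over.mk t) ≫ PicF.XTmap f (𝟙 (Over.mk t))) (wT (i ≫ f) w₀ (Over.mk t)) U R₀ e₀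
        ((cech U).Kmap 1 (relMap ((SqzFam.quad pb hnil (Over.mk t)).pair _)).hom g) ∧
      (cech U).δ 2 _ z = 0 := by
  have h1 : CompactSpace (PicF.XT f (Over.mk t)) := by
    have : CompactSpace (Over.mk t).left := inferInstanceAs (CompactSpace (Spec (CommRingCat.of B)))
    exact compactSpace_XT (Over.mk t)
  have h2 : (PicF.XT f (Over.mk t)).IsSeparated := by
    have : (Over.mk t).left.IsSeparated := inferInstanceAs ((Spec (CommRingCat.of B)).IsSeparated)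
    exact isSeparated_XT (Over.mk t)
  exact exists_setup (SqzFam.quad pb hnil (Over.mk t)) (PicF.XTmap f (𝟙 (Over.mk t))) R₀

/-- No nonzero `0`-cocycles. -/
theorem eq_zero_of_inj (hI : Inj (i ≫ f) w₀) (T : Over S) {W : Scheme.{u}}
    (b : PicF.XT (i ≫ f) T ⟶ W) {ι : Type} [LinearOrder ι] [Fintype ι] {U : ι → W.Opens}
    (hU : ⨆ a, U a = ⊤) (h : (cech U).K 0 (relUnits b (wT (i ≫ f) w₀ T)).obj)
    (hh : (cech U).δ 0 _ h = 0) : h = 0 :=
  eq_zero_of_δ b _ hU (hI T) h hh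

end Rig

end Groth.Agent.Pic13.H547.CoreSetup
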