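import Groth.Agent.Pic13.H943.HFreeShrink
import Groth.Agent.Pic13.H547.CFField

/-!
# Coherent modules on proper schemes over a field

`cfn_of_field`: `H943.CFN f F`; `hfree_of_field`: `H958.HFree.HFree f F` (all base changes have finite free cohomology).
-/

set_option autoImplicit false
universe u
open CategoryTheory CategoryTheory.Limits AlgebraicGeometry Opposite TopologicalSpace

namespace Groth.Agent.Pic13.H547.HFreeField

open Groth.Agent.Pic13.H943 Groth.Agent.Pic13.H943.ModH Groth.Agent.Pic13.H943.FlatBC Groth.Agent.Pic13.H504.GenFlat Groth.Agent.Pic13.H547.CFField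

lemma free_of_isField (R M : Type*) [CommRing R] (h : IsField R) [AddCommGroup M] [Module R M] :
    Module.Free R M := by
  let _ := h.toField
  infer_instance

variable (k : Type u) [Field k] {X : Scheme.{u}} (f : X ⟶ Spec (CommRingCat.of k)) [IsProper f]
  (F : X.Modules) (hF : Coh.IsCoh F)

include hF in
/-- Coherent modules on a proper scheme over a field are cohomologically flat. -/
theorem cfn_of_field : CFN f F := by
  have hfield := isField_Γ k
  have hN : IsNoetherianRing Γ(Spec (CommRingCat.of k), ⊤) := by
    let _ := hfield.toField
    infer_instance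
  refine ⟨hF, ?_, fun p => ?_, fun p => ?_⟩
  · obtain ⟨a, ha, hfl⟩ := exists_isFlatOverAt' f F hF
    intro x
    apply hfl x
    obtain ⟨b, hb⟩ := hfield.mul_inv_cancel ha
    have h1 : (Spec (CommRingCat.of k)).basicOpen a = ⊤ :=
      Scheme.basicOpen_of_isUnit _ (IsUnit.of_mul_eq_one b hb)
    rw [h1]
    trivial
  · exact finite_modH f F hF p
  · let i1 := modH f F p
    exact projective_of_isField _ _ hfield

include hF in
/-- All base changes of a coherent module on a proper scheme over a field have finite free cohomology. -/
theorem hfree_of_field : H958.HFree.HFree f F :=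
  (cfn_of_field k f F hF).hfree fun p => by
    let i1 := modH f F p
    exact free_of_isField _ _ (isField_Γ k)

end Groth.Agent.Pic13.H547.HFreeField
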