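import Groth.Agent.Pic13.H547.AffCore
import Groth.Agent.Pic13.H547.HFreeField
import Groth.Agent.CycB.CohProp
import Groth.Agent.CohqA.IdealMod
import Groth.Agent.CurvesB.UnitCoh

/-!
# The relative square-zero step over a field

`d1Stmt : Sqz.D1Stmt`.
-/

set_option autoImplicit false
universe u

open CategoryTheory CategoryTheory.Limits AlgebraicGeometry TopologicalSpace Opposite

namespace Groth.Agent.Pic13.H547.D1Field

open Groth.Agent Groth.Agent.Pic13.H602.Rig
open Groth.Agent.Pic13.H547.CoreGlue Groth.Agent.Pic13.H547.AffCore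

theorem isCoh_idealMod {X : Scheme.{u}} [IsLocallyNoetherian X] (D : X.IdealSheafData) :
    Coh.IsCoh (ClSub.idealMod D) := by
  have := CohqA.IdealMod.mono_idealModι D
  exact CycB.CohProp.isCoh_of_mono (ClSub.idealModι D) (CohqA.IdealMod.isQCoh_idealMod D)
    (CurvesB.UnitCoh.isCoh_structureModule X)

/-- Coherent cohomology on a proper scheme over a field is finite free. -/
theorem free_finite (k : Type u) [Field k] {X : Scheme.{u}} (f : X ⟶ Spec (CommRingCat.of k)) [IsProper f]
    (F : X.Modules) (hF : Coh.IsCoh F) (p : ℕ) :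
    letI := H943.FlatBC.modH f F p
    Module.Free Γ(Spec (CommRingCat.of k), ⊤) (Coh.HH X F p) ∧
      Module.Finite Γ(Spec (CommRingCat.of k), ⊤) (Coh.HH X F p) := by
  have hfield := CFField.isField_Γ k
  have hN : IsNoetherianRing Γ(Spec (CommRingCat.of k), ⊤) := by
    let _ := hfield.toField
    infer_instance
  let i1 := H943.FlatBC.modH f F p
  exact ⟨HFreeField.free_of_isField _ _ hfield, H943.ModH.finite_modH f F hF p⟩

/-- **(D1)**: the relative square-zero step over a field. -/
theorem d1Stmt : Sqz.D1Stmt.{u} := by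
  refine d1Stmt_of_coreRing (fun k _ X X₀ Y f _ i _ w _ hi hf h1 h2 B _ t x => ?_)
  have hX : IsLocallyNoetherian X := LocallyOfFiniteType.isLocallyNoetherian f
  have hc : CompactSpace X := QuasiCompact.compactSpace_of_compactSpace f
  have c1 : CompactSpace X₀ := QuasiCompact.compactSpace_of_compactSpace (i ≫ f)
  have c2 : QuasiSeparatedSpace X₀ := quasiSeparatedSpace_of_quasiSeparated (i ≫ f)
  have c3 : CompactSpace (pullback w i : Scheme.{u}) := QuasiCompact.compactSpace_of_compactSpace
    (pullback.snd w i ≫ i ≫ f)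
  have c4 : QuasiSeparatedSpace (pullback w i : Scheme.{u}) :=
    quasiSeparatedSpace_of_quasiSeparated (pullback.snd w i ≫ i ≫ f)
  exact coreRing f i w (pullback.snd w i) (pullback.fst w i) (IsPullback.of_hasPullback w i) hi
    (fun p => free_finite k f _ (isCoh_idealMod _) p) (inj_of_field (i ≫ f) (pullback.snd w i) h2) t x

end Groth.Agent.Pic13.H547.D1Field
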