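import Groth.Agent.Pic13.H547.Rigidifier
import Groth.Agent.Pic13.H602.Rule0

/-!
# The square-zero rule over a field, from the relative statement for closed rigidificators

`rep_sqz`: rule (sqz) from rule (0) and the relative statement `D1Stmt`.
-/

set_option autoImplicit false
universe u

open CategoryTheory CategoryTheory.Limits AlgebraicGeometry Opposite
open Groth.Agent.Pic13.H955.RepDef Groth.Agent.Pic13.H602.Rule0

namespace Groth.Agent.Pic13.H547.Sqz

/-- The relative statement (D1): `i : X₀ ⟶ X` a closed immersion of square zero, `w : Y ⟶ X` a closed immersion with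
`Y` finite over the field, `Y₀ = Y ×_X X₀`, `Γ(X) → Γ(Y)` and `Γ(X₀) → Γ(Y₀)` injective. If the rigidified functor of `(X₀, Y₀)` is
representable by a scheme locally of finite type, so is the one of `(X, Y)`. -/
def D1Stmt : Prop :=
  ∀ (k : Type u) [Field k] {X X₀ Y : Scheme.{u}} (f : X ⟶ Spec (CommRingCat.of k)) [IsProper f] (i : X₀ ⟶ X)
    [IsClosedImmersion i] (w : Y ⟶ X) [IsClosedImmersion w], i.ker * i.ker = ⊥ → IsFinite (w ≫ f) →
    Function.Injective w.appTop.hom → Function.Injective (pullback.snd w i).appTop.hom → RepW (i ≫ f) (pullback.snd w i) → RepW f w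

/-- **The square-zero rule.** -/
theorem rep_sqz (hD1 : D1Stmt.{u}) (hIsom : IsomStmt.{u}) (k : Type u) [Field k] {X X₀ : Scheme.{u}}
    (f : X ⟶ Spec (CommRingCat.of k)) [IsProper f] (i : X₀ ⟶ X) [IsClosedImmersion i] (hi : i.ker * i.ker = ⊥)
    (h : Rep (i ≫ f)) : Rep f := by
  obtain ⟨W₁, w₁, hw₁, hinj, hrep⟩ := h
  have hfin : IsFinite ((w₁ ≫ i) ≫ f) := by rwa [Category.assoc]
  obtain ⟨I, j, -, hj, hI, hIinj⟩ := Rigidifier.exists_rigidifier_le k f (w₁ ≫ i)
  let v : W₁ ⟶ pullback I.subschemeι i := pullback.lift j w₁ hj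
  have hv : v ≫ pullback.snd I.subschemeι i = w₁ := pullback.lift_snd _ _ _
  have h0 : IsFinite (pullback.snd I.subschemeι i ≫ i ≫ f) := by
    have h1 : pullback.snd I.subschemeι i ≫ i ≫ f = pullback.fst I.subschemeι i ≫ I.subschemeι ≫ f := by
      rw [← Category.assoc, ← pullback.condition, Category.assoc]
    rw [h1]
    have h2 : IsClosedImmersion (pullback.fst I.subschemeι i) := inferInstance
    infer_instance
  have h1 : RepW (i ≫ f) (pullback.snd I.subschemeι i) := by
    refine repW_of_comp hIsom (i ≫ f) (pullback.snd I.subschemeι i) v h0 ?_ ?_ ?_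
    · rw [hv]; exact hw₁
    · rw [hv]; exact hinj
    · rw [hv]; exact hrep
  have h2 : Function.Injective (pullback.snd I.subschemeι i).appTop.hom := by
    have h3 : w₁.appTop = (pullback.snd I.subschemeι i).appTop ≫ v.appTop := by
      rw [← Scheme.Hom.comp_appTop, hv]
    rw [h3, CommRingCat.hom_comp, RingHom.coe_comp] at hinj
    exact hinj.of_comp
  exact ⟨I.subscheme, I.subschemeι, hI, hIinj, hD1 k f i I.subschemeι hi hI hIinj h2 h1⟩

/-- The square-zero rule for closed subschemes. -/
theorem rep_sqz' (hD1 : D1Stmt.{u}) (hIsom : IsomStmt.{u}) (k : Type u) [Field k] {X : Scheme.{u}}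
    (f : X ⟶ Spec (CommRingCat.of k)) [IsProper f] (J : X.IdealSheafData) (hJ : J * J = ⊥)
    (h : Rep (J.subschemeι ≫ f)) : Rep f :=
  rep_sqz hD1 hIsom k f J.subschemeι (by rw [Scheme.IdealSheafData.ker_subschemeι]; exact hJ) h

end Groth.Agent.Pic13.H547.Sqz
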