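import Groth.Agent.Pic13.H547.AffGlue
import Groth.Agent.Pic13.H547.Sqz

/-!
# Gluing of the relative square-zero step

`w₀ : Y₀ ⟶ X₀`, `j : Y₀ ⟶ Y`, `i : X₀ ⟶ X`, `w : Y ⟶ X` with `w₀ ≫ i = j ≫ w`.

* `φ : rigF f w ⟶ rigF (i ≫ f) w₀` (restriction), natural;
* `Core`: the lifts of a given element over an affine base are represented by an affine scheme;
* `exists_univ`: `Core` for all affine `T` ⟹ a universal element of `rigF f w` from one of `rigF (i ≫ f) w₀`;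
* `d1Stmt_of_core`.
-/

set_option autoImplicit false
universe u

open CategoryTheory CategoryTheory.Limits AlgebraicGeometry Opposite
open Groth.Agent.Pic13.H602.Rig Groth.Agent.Pic13.H955.FinDesc Groth.Agent.Picfga.OverRep
open Groth.Agent.Picfga.HilbPull Groth.Agent.Pic13.H955.RepDef

namespace Groth.Agent.Pic13.H547.D1Glue

variable {X X₀ Y Y₀ S : Scheme.{u}} (f : X ⟶ S) (i : X₀ ⟶ X) (w : Y ⟶ X) (w₀ : Y₀ ⟶ X₀) (j : Y₀ ⟶ Y)
  (hw : w₀ ≫ i = j ≫ w)

include hw in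
lemma gT_aux : (w₀ ≫ i ≫ f) ≫ 𝟙 S = j ≫ w ≫ f := by
  rw [Category.comp_id, ← Category.assoc, hw, Category.assoc]

/-- `Y₀_T ⟶ Y_T`. -/
noncomputable def gT (T : Over S) : PicF.XT (w₀ ≫ i ≫ f) T ⟶ PicF.XT (w ≫ f) T :=
  pullback.map (w₀ ≫ i ≫ f) T.hom (w ≫ f) T.hom j (𝟙 _) (𝟙 _) (gT_aux f i w w₀ j hw) (by simp)

@[reassoc]
lemma gT_fst (T : Over S) : gT f i w w₀ j hw T ≫ pullback.fst (w ≫ f) T.hom =
    pullback.fst (w₀ ≫ i ≫ f) T.hom ≫ j :=
  pullback.lift_fst _ _ _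

@[reassoc]
lemma gT_snd (T : Over S) : gT f i w w₀ j hw T ≫ pullback.snd (w ≫ f) T.hom =
    pullback.snd (w₀ ≫ i ≫ f) T.hom :=
  (pullback.lift_snd _ _ _).trans (Category.comp_id _)

lemma sqT (T : Over S) : wT (i ≫ f) w₀ T ≫ wT f i T = gT f i w w₀ j hw T ≫ wT f w T := by
  apply pullback.hom_ext
  · rw [Category.assoc, Category.assoc, wT_fst, wT_fst, gT_fst_assoc, ← hw]
    exact (wT_fst_assoc (i ≫ f) w₀ T i)
  · rw [Category.assoc, Category.assoc, wT_snd, wT_snd, wT_snd, gT_snd]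

lemma gT_XTmap {T T' : Over S} (g : T' ⟶ T) : gT f i w w₀ j hw T' ≫ PicF.XTmap (w ≫ f) g =
    PicF.XTmap (w₀ ≫ i ≫ f) g ≫ gT f i w w₀ j hw T := by
  apply pullback.hom_ext
  · rw [Category.assoc, Category.assoc, XTmap_fst, gT_fst, gT_fst, XTmap_fst_assoc]
  · rw [Category.assoc, Category.assoc, XTmap_snd, gT_snd, gT_snd_assoc, XTmap_snd]

/-- Restriction of rigidified modules from `(X, Y)` to `(X₀, Y₀)`. -/
noncomputable def φ (T : Over S) : RCl (wT f w T) → RCl (wT (i ≫ f) w₀ T) :=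
  RCl.pull (sqT f i w w₀ j hw T)

lemma φ_nat {T T' : Over S} (g : T' ⟶ T) (x : RCl (wT f w T)) :
    φ f i w w₀ j hw T' (RCl.pull (wT_XTmap f w g) x) =
      RCl.pull (wT_XTmap (i ≫ f) w₀ g) (φ f i w w₀ j hw T x) := by
  rw [φ, φ, RCl.pull_pull, RCl.pull_pull]
  exact RCl.pull_congr _ _ (wT_XTmap f i g) (gT_XTmap f i w w₀ j hw g) x

/-- The lifts of `x` are represented by an affine scheme of finite type over `T`, tested on affine schemes. -/
def Core (T : Over S) (x : RCl (wT (i ≫ f) w₀ T)) : Prop :=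
  ∃ (A : Over S) (a : A ⟶ T) (y : RCl (wT f w A)), IsAffine A.left ∧ LocallyOfFiniteType a.left ∧
    φ f i w w₀ j hw A y = RCl.pull (wT_XTmap (i ≫ f) w₀ a) x ∧
    ∀ (T' : Over S) [IsAffine T'.left] (b : T' ⟶ T) (y' : RCl (wT f w T')),
      φ f i w w₀ j hw T' y' = RCl.pull (wT_XTmap (i ≫ f) w₀ b) x →
        ∃! h : T' ⟶ A, h ≫ a = b ∧ RCl.pull (wT_XTmap f w h) y = y'

/-- **Gluing.** -/
theorem exists_univ (hF : IsZarSheaf (rigF f w)) {P₀ : Over S} {ξ₀ : (rigF (i ≫ f) w₀).obj (op P₀)}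
    (h0 : IsUniv (rigF (i ≫ f) w₀) P₀ ξ₀)
    (hcore : ∀ (T : Over S) [IsAffine T.left] (x : RCl (wT (i ≫ f) w₀ T)), Core f i w w₀ j hw T x) :
    ∃ (P : Over S) (ξ : (rigF f w).obj (op P)) (p : P ⟶ P₀), IsUniv (rigF f w) P ξ ∧
      (rigF (i ≫ f) w₀).map p.op ξ₀ = φ f i w w₀ j hw P ξ ∧ IsAffineHom p.left ∧ LocallyOfFiniteType p.left :=
  AffGlue.exists_isUniv (F := rigF f w) (G := rigF (i ≫ f) w₀) (fun T => φ f i w w₀ j hw T)
    (fun g x => φ_nat f i w w₀ j hw g x) hF h0 (fun T _ x => hcore T x)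

/-- The relative square-zero step over a field from its affine core. -/
theorem d1Stmt_of_core
    (H : ∀ (k : Type u) [Field k] {X X₀ Y : Scheme.{u}} (f : X ⟶ Spec (CommRingCat.of k)) [IsProper f]
      (i : X₀ ⟶ X) [IsClosedImmersion i] (w : Y ⟶ X) [IsClosedImmersion w], i.ker * i.ker = ⊥ →
      IsFinite (w ≫ f) → Function.Injective w.appTop.hom → Function.Injective (pullback.snd w i).appTop.hom →
      ∀ (T : Over (Spec (CommRingCat.of k))) [IsAffine T.left] (x : RCl (wT (i ≫ f) (pullback.snd w i) T)),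
        Core f i w (pullback.snd w i) (pullback.fst w i) pullback.condition.symm T x) :
    Sqz.D1Stmt.{u} := by
  intro k _ X X₀ Y f _ i _ w _ hi hw hinj hinj₀ hrep
  obtain ⟨P₀, ξ₀, h1, h2⟩ := hrep
  have hc : CompactSpace X := QuasiCompact.compactSpace_of_compactSpace f
  have hq : QuasiSeparatedSpace X := quasiSeparatedSpace_of_quasiSeparated f
  have hc' : CompactSpace Y := QuasiCompact.compactSpace_of_compactSpace (w ≫ f)
  have hq' : QuasiSeparatedSpace Y := quasiSeparatedSpace_of_quasiSeparated (w ≫ f)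
  have hI : Inj f w := inj_of_field f w hinj
  obtain ⟨P, ξ, p, h3, -, h5, h6⟩ := exists_univ f i w (pullback.snd w i) (pullback.fst w i)
    pullback.condition.symm (isFpqcSheaf_rigF hI).isZarSheaf h1 (H k f i w hi hw hinj hinj₀)
  refine ⟨P, ξ, h3, ?_⟩
  rw [← Over.w p]
  infer_instance

end Groth.Agent.Pic13.H547.D1Glue
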