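import Groth.Agent.S3017
import Groth.Agent.S3034
import Groth.Agent.S0115
import Groth.Agent.Sga3C.QuotGrpObj
import Groth.Prelude.Def_AlgGrp
import Mathlib.AlgebraicGeometry.Morphisms.LocalFlatDescent

/-!
# Quotients of group schemes by smooth subgroups: smooth presentations

* `isPullback_of_isKernel` : the kernel pair of a homomorphism with kernel `κ : K ⟶ G`;
* `smooth_of_isPullback` : `p` is smooth if it is an fppf quotient by a smooth group;
* `exists_smooth_quotient` : over a field, the quotient of a group scheme locally of finite type by the image of a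
  smooth quasi-compact group scheme with smooth kernel.
-/

set_option autoImplicit false
universe u v
open CategoryTheory MonoidalCategory CartesianMonoidalCategory MonObj GrpObj AlgebraicGeometry Limits
open Groth.Agent.Sga3C.QuotGrpObj

namespace Groth.Agent.Pic13.H547.GrpPres

section Cat

variable {C : Type u} [Category.{v} C] [CartesianMonoidalCategory C]

theorem isKernel_iff {K G N : C} [GrpObj N] {κ : K ⟶ G} {p : G ⟶ N}
    (h : IsPullback κ (toUnit K) p η[N]) {T : C} (c : T ⟶ G) :
    c ≫ p = 1 ↔ ∃ a : T ⟶ K, a ≫ κ = c := by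
  constructor
  · intro hc
    have h1 : c ≫ p = toUnit T ≫ η[N] := by rw [hc, Hom.one_def]
    exact ⟨h.lift c (toUnit T) h1, h.lift_fst _ _ _⟩
  · rintro ⟨a, rfl⟩
    rw [Category.assoc, h.w, ← Category.assoc, toUnit_unique (a ≫ toUnit K) (toUnit T), Hom.one_def]

theorem mono_of_isKernel {K G N : C} [GrpObj N] {κ : K ⟶ G} {p : G ⟶ N}
    (h : IsPullback κ (toUnit K) p η[N]) : Mono κ :=
  ⟨fun _ _ hab => h.hom_ext hab (toUnit_unique _ _)⟩

/-- The kernel pair of a homomorphism in terms of its kernel. -/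
theorem isPullback_of_isKernel {K G N : C} [GrpObj G] [GrpObj N] {κ : K ⟶ G} {p : G ⟶ N} [IsMonHom p]
    (h : IsPullback κ (toUnit K) p η[N]) : IsPullback ((κ ▷ G) ≫ μ[G]) (snd K G) p p := by
  have hκ := mono_of_isKernel h
  have e : ∀ {T : C} (l : T ⟶ K ⊗ G), l ≫ (κ ▷ G) ≫ μ[G] = ((l ≫ fst K G) ≫ κ) * (l ≫ snd K G) := by
    intro T l
    rw [Hom.mul_def, ← Category.assoc]
    congr 1
    ext1 <;> simp
  have w : ((κ ▷ G) ≫ μ[G]) ≫ p = snd K G ≫ p := by
    have h1 := e (𝟙 (K ⊗ G))
    rw [Category.id_comp, Category.id_comp, Category.id_comp] at h1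
    rw [h1, mul_comp, (isKernel_iff h (fst K G ≫ κ)).mpr ⟨_, rfl⟩, _root_.one_mul]
  have key : ∀ s : PullbackCone p p, ∃ l : s.pt ⟶ K ⊗ G, l ≫ (κ ▷ G) ≫ μ[G] = s.fst ∧ l ≫ snd K G = s.snd := by
    intro s
    have h1 : (s.fst * s.snd⁻¹) ≫ p = 1 := by
      rw [mul_comp, inv_comp, s.condition, mul_inv_cancel]
    obtain ⟨a, ha⟩ := (isKernel_iff h _).mp h1
    refine ⟨lift a s.snd, ?_, by simp⟩
    rw [e, lift_fst, lift_snd, ha, inv_mul_cancel_right]
  choose l hl1 hl2 using key
  refine ⟨⟨w⟩, ⟨PullbackCone.IsLimit.mk _ l hl1 hl2 ?_⟩⟩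
  intro s m hm1 hm2
  have h3 : m ≫ snd K G = l s ≫ snd K G := by rw [hm2, hl2]
  have h4 : (m ≫ fst K G) ≫ κ = (l s ≫ fst K G) ≫ κ := by
    have h5 : m ≫ (κ ▷ G) ≫ μ[G] = l s ≫ (κ ▷ G) ≫ μ[G] := by rw [hl1]; exact hm1
    rw [e, e, h3] at h5
    exact mul_right_cancel h5
  ext1
  · exact (cancel_mono κ).mp h4
  · exact h3

end Cat

variable {S : Scheme.{u}}

theorem smooth_snd {K G : Over S} [Smooth K.hom] : Smooth (snd K G).left := by
  change Smooth (pullback.snd K.hom G.hom)
  infer_instance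

/-- A faithfully flat map of finite presentation with kernel pair the action of a smooth `K` is smooth. -/
theorem smooth_of_isPullback {K G Q : Over S} [GrpObj G] {κ : K ⟶ G} {p : G ⟶ Q} [Smooth K.hom]
    [Flat p.left] [Surjective p.left] [LocallyOfFinitePresentation p.left]
    (h : IsPullback ((κ ▷ G) ≫ μ[G]) (snd K G) p p) : Smooth p.left := by
  have h6 := h.map (Over.forget S)
  refine MorphismProperty.of_isPullback_of_descendsAlong (P := @Smooth)
    (Q := @Surjective ⊓ @Flat ⊓ @LocallyOfFinitePresentation) (f := p.left) (g := p.left)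
      h6.flip ⟨⟨‹_›, ‹_›⟩, ‹_›⟩ ?_
  exact smooth_snd

theorem flat_of_isKernel {K G N : Over S} [GrpObj N] {κ : K ⟶ G} {p : G ⟶ N} [Flat K.hom]
    (h : IsPullback κ (toUnit K) p η[N]) :
    Flat (Limits.pullback.snd p.left (η[N] : 𝟙_ (Over S) ⟶ N).left) := by
  have h6 := h.map (Over.forget S)
  have h7 : Limits.pullback.snd p.left (η[N] : 𝟙_ (Over S) ⟶ N).left = h6.isoPullback.inv ≫ (toUnit K).left :=
    (h6.isoPullback_inv_snd).symm
  have h8 : Flat (toUnit K).left := inferInstanceAs (Flat K.hom)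
  rw [h7]
  exact MorphismProperty.comp_mem _ _ _ (inferInstanceAs (Flat h6.isoPullback.inv)) h8

section Field

variable (k : Type u) [Field k]

/-- Quotient of a group scheme locally of finite type over a field by the image of a smooth quasi-compact group
scheme with smooth kernel. `p` is a smooth surjective homomorphism-like map whose fibres are étale-locally the orbits. -/
theorem exists_smooth_quotient {R G K : Over (Spec (CommRingCat.of k))} [GrpObj R] [GrpObj G]
    [LocallyOfFiniteType R.hom] [IsSeparated R.hom] [Smooth G.hom] [QuasiCompact G.hom] [Smooth K.hom]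
    (δ : G ⟶ R) [IsMonHom δ] (κ : K ⟶ G) (hκ : AlgGrp.IsKernel κ δ) :
    ∃ (Q : Over (Spec (CommRingCat.of k))) (p : R ⟶ Q), Smooth p.left ∧ Surjective p.left ∧
      IsSeparated Q.hom ∧ LocallyOfFiniteType Q.hom ∧
      ∃ (N : Over (Spec (CommRingCat.of k))) (_ : GrpObj N) (q : G ⟶ N) (i : N ⟶ R), IsMonHom q ∧ IsMonHom i ∧
        q ≫ i = δ ∧ Smooth q.left ∧ Surjective q.left ∧ IsClosedImmersion i.left ∧ Smooth N.hom ∧
        IsPullback ((i ▷ R) ≫ μ[R]) (snd N R) p p := by
  have hsep : QuasiCompact δ.left := by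
    have h1 : QuasiCompact (δ.left ≫ R.hom) := by rw [Over.w]; infer_instance
    exact QuasiCompact.of_comp δ.left R.hom
  obtain ⟨N, gN, q, i, hq, hi, hqi, fq, sq, lq, ci⟩ := Groth.Agent.S3034.result k G R δ (flat_of_isKernel hκ)
  have mi : Mono i := by
    have : Mono i.left := inferInstance
    exact Over.mono_of_mono_left i
  have hκ' : AlgGrp.IsKernel κ q := by
    have hw := hκ.w
    refine ⟨⟨?_⟩, ⟨PullbackCone.IsLimit.mk _ (fun s => hκ.lift s.fst s.snd ?_) ?_ ?_ ?_⟩⟩
    · rw [← cancel_mono i, Category.assoc, Category.assoc, hqi, hw, IsMonHom.one_hom]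
    · rw [← hqi, ← Category.assoc, s.condition, Category.assoc, IsMonHom.one_hom]
    · intro s; exact hκ.lift_fst _ _ _
    · intro s; exact hκ.lift_snd _ _ _
    · intro s m h1 h2
      apply hκ.hom_ext
      · rw [hκ.lift_fst, h1]
      · rw [hκ.lift_snd, h2]
  have smq : Smooth q.left := smooth_of_isPullback (isPullback_of_isKernel hκ')
  have smN : Smooth N.hom := by
    have : Smooth (q.left ≫ N.hom) := by rw [Over.w]; infer_instance
    exact Groth.Agent.S0115.result q.left N.hom
  have : QuasiCompact i.left := inferInstance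
  obtain ⟨Q, p, h1, h2, h3, h4, h5, h6, h7⟩ := Groth.Agent.S3017.result k N R i
  have smp : Smooth p.left := smooth_of_isPullback h4
  have : LocallyOfFiniteType Q.hom := by
    have hR : LocallyOfFinitePresentation R.hom := LocallyOfFinitePresentation.iff_locallyOfFiniteType.mpr ‹_›
    have : LocallyOfFinitePresentation (p.left ≫ Q.hom) := by rw [Over.w]; exact hR
    have : LocallyOfFinitePresentation Q.hom := Groth.Agent.S0114.result p.left Q.hom
    infer_instance
  exact ⟨Q, p, smp, h2, h5, this, N, gN, q, i, hq, hi, hqi, smq, sq, ci, smN, h4⟩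

end Field

end Groth.Agent.Pic13.H547.GrpPres
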