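import Groth.Agent.Pic13.H547.Present
import Groth.Agent.Pic13.H547.GrpPres

/-!
# The final quotient: representability of the Picard functor from the rigidified Picard functor

Abstract form. `k` a field, `f : X ⟶ Spec k`, `R` a group scheme locally of finite type over `k` (representing the
rigidified Picard functor), `δ : G ⟶ R` a homomorphism from a smooth quasi-compact group scheme with smooth kernel
(units of the rigidifier), `ρ_T : (T ⟶ R) → Pic X_T` forgetting the rigidification. Then `P = R / im δ` represents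
the étale sheafified relative Picard functor of `X / k`.
-/

set_option autoImplicit false
universe u

open CategoryTheory MonoidalCategory CartesianMonoidalCategory MonObj GrpObj AlgebraicGeometry Limits Opposite
open Groth.Agent.Ega3A.PicDiv Groth.Agent.Ega3A.PicEtSh Groth.Agent.Grpsch.PicGrp
open Groth.Agent.Ega3A.PicSheaf Groth.Agent.Ega3A.PicRep Groth.Agent.Sga3C.QuotGrpObj

namespace Groth.Agent.Pic13.H547.FinalQuot

variable (k : Type u) [Field k] {X : Scheme.{u}} (f : X ⟶ Spec (CommRingCat.of k))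

/-- The hypotheses on the forgetful maps `ρ_T : (T ⟶ R) → Pic X_T`. -/
structure RigData {R G : Over (Spec (CommRingCat.of k))} [GrpObj R] [GrpObj G] (δ : G ⟶ R)
    (ρ : ∀ T : Over (Spec (CommRingCat.of k)), (T ⟶ R) → Pic (PicF.XT f T)) : Prop where
  nat : ∀ {T T' : Over (Spec (CommRingCat.of k))} (g : T' ⟶ T) (r : T ⟶ R),
    LocEq f T' (ρ T' (g ≫ r)) (pu f g (ρ T r))
  mul : ∀ {T : Over (Spec (CommRingCat.of k))} (r s : T ⟶ R), LocEq f T (ρ T (r * s)) (ρ T r * ρ T s)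
  triv : ∀ {T : Over (Spec (CommRingCat.of k))} (c : T ⟶ G), LocEq f T (ρ T (c ≫ δ)) 1
  ker : ∀ {T : Over (Spec (CommRingCat.of k))} (r : T ⟶ R), LocEq f T (ρ T r) 1 →
    ∃ 𝒰 : ECov T, ∀ i, ∃ c : 𝒰.V i ⟶ G, c ≫ δ = 𝒰.j i ≫ r
  surj : ∀ {T : Over (Spec (CommRingCat.of k))} (c : Pic (PicF.XT f T)), ∃ 𝒰 : ECov T, ∀ i, ∃ r : 𝒰.V i ⟶ R,
    LocEq f (𝒰.V i) (ρ _ r) (pu f (𝒰.j i) c)

variable {k f}

namespace RigData

variable {R G : Over (Spec (CommRingCat.of k))} [GrpObj R] [GrpObj G] {δ : G ⟶ R}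
  {ρ : ∀ T : Over (Spec (CommRingCat.of k)), (T ⟶ R) → Pic (PicF.XT f T)}

theorem one [IsMonHom δ] (h : RigData k f δ ρ) (T : Over (Spec (CommRingCat.of k))) :
    LocEq f T (ρ T 1) 1 := by
  have h1 := h.triv (1 : T ⟶ G)
  rwa [one_comp] at h1

theorem inv [IsMonHom δ] (h : RigData k f δ ρ) {T : Over (Spec (CommRingCat.of k))} (b : T ⟶ R) :
    LocEq f T (ρ T b⁻¹) (ρ T b)⁻¹ := by
  have h1 : LocEq f T (ρ T (b⁻¹ * b)) (ρ T b⁻¹ * ρ T b) := h.mul _ _
  rw [inv_mul_cancel] at h1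
  have h2 : LocEq f T (ρ T b⁻¹ * ρ T b) 1 := h1.symm.trans (h.one T)
  have h3 := h2.mul (LocEq.refl (ρ T b)⁻¹)
  rwa [mul_inv_cancel_right, _root_.one_mul] at h3

theorem locEq_iff [IsMonHom δ] (h : RigData k f δ ρ) {T : Over (Spec (CommRingCat.of k))} (a b : T ⟶ R) :
    LocEq f T (ρ T a) (ρ T b) ↔ LocEq f T (ρ T (a * b⁻¹)) 1 := by
  have h1 : LocEq f T (ρ T (a * b⁻¹)) (ρ T a * (ρ T b)⁻¹) := (h.mul _ _).trans ((LocEq.refl _).mul (h.inv b))
  rw [← LocEq.mul_inv_iff (c := ρ T a)]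
  exact ⟨fun h2 => h1.trans h2, fun h2 => h1.symm.trans h2⟩

end RigData

/-- The final quotient. -/
theorem exists_quotient {R G K : Over (Spec (CommRingCat.of k))} [GrpObj R] [GrpObj G]
    [LocallyOfFiniteType R.hom] [IsSeparated R.hom] [Smooth G.hom] [QuasiCompact G.hom] [Smooth K.hom]
    (δ : G ⟶ R) [IsMonHom δ] (κ : K ⟶ G) (hκ : AlgGrp.IsKernel κ δ)
    (ρ : ∀ T : Over (Spec (CommRingCat.of k)), (T ⟶ R) → Pic (PicF.XT f T)) (h : RigData k f δ ρ) :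
    ∃ (P : Over (Spec (CommRingCat.of k))) (p : R ⟶ P), Smooth p.left ∧ Surjective p.left ∧
      PicRel.RepresentedBy f P ∧ IsSeparated P.hom ∧ LocallyOfFiniteType P.hom := by
  obtain ⟨Q, p, sp, sup, sepQ, lftQ, N, gN, q, i, hq, hi, hqi, smq, sq, ci, smN, hp⟩ :=
    GrpPres.exists_smooth_quotient k δ κ hκ
  refine ⟨Q, p, sp, sup, ?_, sepQ, lftQ⟩
  refine Present.representedBy_of_presentation f p ρ h.nat (fun {T} a b => ?_) h.surj
  rw [h.locEq_iff]
  constructor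
  · intro hab
    obtain ⟨n, hn⟩ := exists_fac_of_comp_eq hp a b hab
    have hn' : a * b⁻¹ = n ≫ i := by rw [hn, mul_inv_cancel_right]
    rw [hn']
    obtain ⟨𝒰, h𝒰⟩ := Models2.QuoRep.exists_etCov_lift q n
    refine LocEq.of_cover (ofEt 𝒰) (fun j => ?_)
    obtain ⟨s, hs⟩ := h𝒰 j
    have h1 : LocEq f _ (ρ _ ((ofEt 𝒰).j j ≫ n ≫ i)) (pu f ((ofEt 𝒰).j j) (ρ T (n ≫ i))) := h.nat _ _
    have h2 : (ofEt 𝒰).j j ≫ n ≫ i = s ≫ δ := by
      rw [← hqi, ← Category.assoc, ← Category.assoc, hs]; rfl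
    rw [h2] at h1
    rw [map_one]
    exact h1.symm.trans (h.triv s)
  · intro hab
    obtain ⟨𝒰, h𝒰⟩ := h.ker _ hab
    refine Models2.QuoRep.hom_ext_etCov (toEt 𝒰) _ _ (fun j => ?_)
    obtain ⟨c, hc⟩ := h𝒰 j
    have h1 : 𝒰.j j ≫ a = ((c ≫ q) ≫ i) * (𝒰.j j ≫ b) := by
      rw [Category.assoc, hqi, hc, comp_mul, comp_inv, inv_mul_cancel_right]
    have hw : (i ▷ R) ≫ μ[R] ≫ p = snd N R ≫ p := by rw [← Category.assoc]; exact hp.w
    have h3 := mul_comp_eq hw (c ≫ q) (𝒰.j j ≫ b)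
    rw [← h1, Category.assoc, Category.assoc] at h3
    exact h3

end Groth.Agent.Pic13.H547.FinalQuot
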