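import Groth.Agent.Ega3A.PicRep

/-!
# Representability of the relative Picard functor from a smooth presentation

`representedBy_of_presentation`: if `q : D ⟶ Q` is smooth and surjective and `ρ_T : (T ⟶ D) → Pic X_T` is natural up
to étale-local equality, étale-locally surjective, and `a ≫ q = b ≫ q ↔ ρ a = ρ b` étale-locally, then `Q`
represents the étale sheafified relative Picard functor.
-/

set_option autoImplicit false
universe u

open CategoryTheory CategoryTheory.Limits AlgebraicGeometry Opposite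
open Groth.Agent.Ega3A.PicDiv Groth.Agent.Ega3A.PicEtSh Groth.Agent.Grpsch.PicGrp
open Groth.Agent.Ega3A.PicSheaf Groth.Agent.Ega3A.PicRep

namespace Groth.Agent.Pic13.H547.Present

open Groth.Agent.Picfga.OverRep

variable {X S : Scheme.{u}} (f : X ⟶ S)

theorem representedBy_of_presentation {D Q : Over S} (q : D ⟶ Q) [Smooth q.left] [Surjective q.left]
    (ρ : ∀ T : Over S, (T ⟶ D) → Pic (PicF.XT f T))
    (hnat : ∀ {T T' : Over S} (g : T' ⟶ T) (r : T ⟶ D), LocEq f T' (ρ T' (g ≫ r)) (pu f g (ρ T r)))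
    (hker : ∀ {T : Over S} (a b : T ⟶ D), a ≫ q = b ≫ q ↔ LocEq f T (ρ T a) (ρ T b))
    (hsurj : ∀ {T : Over S} (c : Pic (PicF.XT f T)), ∃ 𝒰 : ECov T, ∀ i, ∃ r : 𝒰.V i ⟶ D,
      LocEq f (𝒰.V i) (ρ _ r) (pu f (𝒰.j i) c)) :
    PicRel.RepresentedBy f Q := by
  obtain ⟨E⟩ := exists_picSh f
  set ξ : E.G.obj (op D) := E.η (ρ D (𝟙 D)) with hξdef
  have hξ : ∀ {T : Over S} (a : T ⟶ D), E.G.map a.op ξ = E.η (ρ T a) := by
    intro T a
    rw [hξdef, ← E.nat, E.eq_iff]
    have h := hnat a (𝟙 D)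
    rw [Category.comp_id] at h
    exact h.symm
  obtain ⟨y, hy, -⟩ := Models2.QuoRep.exists_descent q ξ E.sheaf (by
    intro T a b hab
    rw [hξ, hξ, E.eq_iff]
    exact (hker a b).mp hab)
  have hinj : ∀ (T : Over S) (a b : T ⟶ D), E.G.map a.op ξ = E.G.map b.op ξ → a ≫ q = b ≫ q := by
    intro T a b hab
    rw [hξ, hξ, E.eq_iff] at hab
    exact (hker a b).mpr hab
  refine representedBy_of_universal f E Q y (fun T x => ?_)
  have hex : ∃ k : T ⟶ Q, E.G.map k.op y = x := by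
    refine Models2.QuoRep.exists_lift_of_local q ξ E.sheaf hinj y hy x ?_
    obtain ⟨𝒰, h𝒰⟩ := E.locSurj T x
    choose c hc using h𝒰
    choose 𝒱 h𝒱 using fun i => hsurj (c i)
    choose r hr using h𝒱
    refine ⟨toEt (LocEq.bind 𝒰 𝒱), fun p => ⟨r p.1 p.2, ?_⟩⟩
    have h1 : E.G.map (r p.1 p.2).op ξ = E.G.map ((𝒱 p.1).j p.2).op (E.G.map (𝒰.j p.1).op x) := by
      rw [hξ, ← hc p.1, ← E.nat, E.eq_iff]
      exact hr p.1 p.2
    exact h1.trans (map_comp_apply (G := E.G) _ _ x).symm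
  obtain ⟨k, hk⟩ := hex
  exact ⟨k, hk, fun k' hk' => Models2.QuoRep.mono_of_presentation q ξ hinj y hy k' k (hk'.trans hk.symm)⟩

end Groth.Agent.Pic13.H547.Present
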