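import Groth.Agent.Sga3B.RepDescent5
import Groth.Agent.Sga3B.RepDescent9
import Groth.Agent.Models2.QuoRep

/-!
# Relative étale-local representability by affine morphisms

`exists_of_etale_affine`: let `G` be an étale sheaf on `Over S` with a natural map `π` to a scheme `K`. If
étale-locally on `K` the sheaf `G` is represented relatively by an affine morphism, then `G` is representable by
a scheme affine over `K`.
-/

set_option autoImplicit false
universe w u

open CategoryTheory CategoryTheory.Limits AlgebraicGeometry Opposite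
open Groth.Agent.Picfga.OverRep Groth.Agent.Models2.QuoRep

namespace Groth.Agent.Pic13.H547.RelRep

variable {S : Scheme.{u}} (G : (Over S)ᵒᵖ ⥤ Type w) (K : Over S)

/-- A natural map from `G` to the functor of points of `K`. -/
structure ToSch where
  /-- the map -/
  π : ∀ {T : Over S}, G.obj (op T) → (T ⟶ K)
  nat : ∀ {T T' : Over S} (g : T' ⟶ T) (x : G.obj (op T)), π (G.map g.op x) = g ≫ π x

variable {G K}

/-- Relative universality of `ξ ∈ G(A)` over `a : A ⟶ V`, `j : V ⟶ K`. -/
def RelUniv (p : ToSch G K) {V A : Over S} (j : V ⟶ K) (a : A ⟶ V) (ξ : G.obj (op A)) : Prop :=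
  p.π ξ = a ≫ j ∧ ∀ (T : Over S) (v : T ⟶ V) (x : G.obj (op T)), p.π x = v ≫ j →
    ∃! g : T ⟶ A, g ≫ a = v ∧ G.map g.op ξ = x

section fiber

variable (p : ToSch G K)

/-- `T` over `K`, as a scheme over `S`. -/
abbrev ov (T : Over K.left) : Over S := (Over.map K.hom).obj T

/-- The structure map. -/
abbrev toK (T : Over K.left) : ov T ⟶ K := Over.homMk T.hom rfl

/-- Morphisms over `K` are morphisms over `S`. -/
abbrev ovMap {T T' : Over K.left} (g : T' ⟶ T) : ov T' ⟶ ov T := (Over.map K.hom).map g

lemma ovMap_toK {T T' : Over K.left} (g : T' ⟶ T) : ovMap g ≫ toK T = toK T' := by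
  ext1
  exact Over.w g

/-- The fibre sheaf over `K`. -/
def FO (T : Over K.left) : Type w := { x : G.obj (op (ov T)) // p.π x = toK T }

/-- Restriction. -/
def FO.map {T T' : Over K.left} (g : T' ⟶ T) (x : FO p T) : FO p T' :=
  ⟨G.map (ovMap g).op x.1, by rw [p.nat, x.2, ovMap_toK]⟩

lemma FO.map_val {T T' : Over K.left} (g : T' ⟶ T) (x : FO p T) :
    (FO.map p g x).1 = G.map (ovMap g).op x.1 := rfl

lemma FO.map_id {T : Over K.left} (x : FO p T) : FO.map p (𝟙 T) x = x := by
  apply Subtype.ext
  have h : ovMap (K := K) (𝟙 T) = 𝟙 (ov T) := (Over.map K.hom).map_id T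
  rw [FO.map_val, h]
  simp

lemma FO.map_comp {T T' T'' : Over K.left} (g : T' ⟶ T) (h : T'' ⟶ T') (x : FO p T) :
    FO.map p (h ≫ g) x = FO.map p h (FO.map p g x) := by
  apply Subtype.ext
  have e : ovMap (K := K) (h ≫ g) = ovMap h ≫ ovMap g := (Over.map K.hom).map_comp h g
  rw [FO.map_val, FO.map_val, FO.map_val, ← map_comp_apply, e]

/-- Charts of the relative representability. -/
structure Chart (κ : K.left) where
  /-- étale neighbourhood -/
  V : Over S
  /-- representing object -/
  A : Over S
  /-- the étale map -/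
  j : V ⟶ K
  /-- the affine map -/
  a : A ⟶ V
  /-- the universal element -/
  ξ : G.obj (op A)
  etale : Etale j.left
  mem : κ ∈ Set.range j.left
  affV : IsAffine V.left
  aff : IsAffineHom a.left
  univ : RelUniv p j a ξ

attribute [instance] Chart.etale Chart.affV Chart.aff

variable {p}

/-- the étale cover of `T` over `K` by the charts -/
noncomputable def covT (C : ∀ κ, Chart p κ) (T : Over K.left) : EtCov (ov T) where
  ι := T.left
  V t := Over.mk (pullback.fst T.hom (C (T.hom t)).j.left ≫ (ov T).hom)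
  j t := Over.homMk (pullback.fst T.hom (C (T.hom t)).j.left) rfl
  isEtale t := inferInstanceAs (Etale (pullback.fst T.hom (C (T.hom t)).j.left))
  covers t := by
    obtain ⟨v, hv⟩ := (C (T.hom t)).mem
    obtain ⟨z, hz, -⟩ := Scheme.Pullback.exists_preimage_pullback t v hv.symm
    exact ⟨t, z, hz⟩

/-- second projection -/
noncomputable def sndT (C : ∀ κ, Chart p κ) (T : Over K.left) (t : T.left) :
    (covT C T).V t ⟶ (C (T.hom t)).V :=
  Over.homMk (pullback.snd T.hom (C (T.hom t)).j.left) (by
    change pullback.snd T.hom (C (T.hom t)).j.left ≫ (C (T.hom t)).V.hom =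
      pullback.fst T.hom (C (T.hom t)).j.left ≫ T.hom ≫ K.hom
    rw [← Over.w (C (T.hom t)).j, pullback.condition_assoc])

lemma sndT_j (C : ∀ κ, Chart p κ) (T : Over K.left) (t : T.left) :
    sndT C T t ≫ (C (T.hom t)).j = (covT C T).j t ≫ toK T := by
  ext1
  exact pullback.condition.symm

theorem small_FO (hG : IsEtSheaf G) (C : ∀ κ, Chart p κ) (T : Over K.left) : Small.{u} (FO p T) := by
  have h : ∀ (x : FO p T) (t : T.left), ∃ g : (covT C T).V t ⟶ (C (T.hom t)).A,
      G.map g.op (C (T.hom t)).ξ = G.map ((covT C T).j t).op x.1 := by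
    intro x t
    obtain ⟨g, ⟨-, hg⟩, -⟩ := (C (T.hom t)).univ.2 _ (sndT C T t) (G.map ((covT C T).j t).op x.1) (by
      rw [p.nat, x.2, sndT_j])
    exact ⟨g, hg⟩
  choose g hg using h
  refine small_of_injective (β := ∀ t : T.left, (covT C T).V t ⟶ (C (T.hom t)).A) (f := g) ?_
  intro x y hxy
  apply Subtype.ext
  apply hG.ext_cover _ (covT C T)
  intro t
  rw [← hg x t, ← hg y t, hxy]

/-- The fibre sheaf with values in `Type u`. -/
noncomputable def FS (hs : ∀ T, Small.{u} (FO p T)) : (Over K.left)ᵒᵖ ⥤ Type u where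
  obj T := Shrink.{u} (FO p T.unop)
  map g := ↾(fun x => equivShrink _ (FO.map p g.unop ((equivShrink _).symm x)))
  map_id T := by
    refine ConcreteCategory.hom_ext _ _ fun x => ?_
    change equivShrink _ (FO.map p (𝟙 T.unop) ((equivShrink _).symm x)) = x
    rw [FO.map_id, Equiv.apply_symm_apply]
  map_comp g h := by
    refine ConcreteCategory.hom_ext _ _ fun x => ?_
    change equivShrink _ (FO.map p (h.unop ≫ g.unop) ((equivShrink _).symm x)) =
      equivShrink _ (FO.map p h.unop ((equivShrink _).symm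
        (equivShrink _ (FO.map p g.unop ((equivShrink _).symm x)))))
    rw [FO.map_comp, Equiv.symm_apply_apply]

/-- Elements of the shrunk sheaf. -/
noncomputable def sh (hs : ∀ T, Small.{u} (FO p T)) (T : Over K.left) : (FS hs).obj (op T) ≃ FO p T :=
  (equivShrink _).symm

lemma sh_map (hs : ∀ T, Small.{u} (FO p T)) {T T' : Over K.left} (g : T' ⟶ T) (x : (FS hs).obj (op T)) :
    sh hs T' ((FS hs).map g.op x) = FO.map p g (sh hs T x) := by
  change (equivShrink _).symm (equivShrink _ (FO.map p g ((equivShrink _).symm x))) = _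
  rw [Equiv.symm_apply_apply]
  rfl

theorem isEtSheaf_FS (hG : IsEtSheaf G) (hs : ∀ T, Small.{u} (FO p T)) :
    Groth.Agent.Sga3B.RepDescent.IsEtSheaf (FS hs) := by
  intro T ι T' f hf hcov x hx
  let 𝒰 : EtCov (ov T) :=
    { ι := ι, V := fun i => ov (T' i), j := fun i => ovMap (f i), isEtale := hf, covers := hcov }
  obtain ⟨y, hy, hyu⟩ := hG (ov T) 𝒰 (fun i => (sh hs _ (x i)).1) (by
    intro i k W a₀ b₀ hab₀
    let a : W ⟶ ov (T' i) := a₀
    let b : W ⟶ ov (T' k) := b₀
    have hab : a ≫ ovMap (f i) = b ≫ ovMap (f k) := hab₀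
    let R : Over K.left := Over.mk (a.left ≫ (T' i).hom)
    have hRW : (ov R).hom = W.hom := by
      have h1 := Over.w a
      simpa [R] using h1
    let ra : R ⟶ T' i := Over.homMk a.left rfl
    have hab' : a.left ≫ (f i).left = b.left ≫ (f k).left := congrArg CommaMorphism.left hab
    let rb : R ⟶ T' k := Over.homMk b.left (by
      change b.left ≫ (T' k).hom = a.left ≫ (T' i).hom
      rw [← Over.w (f k), ← Over.w (f i), ← Category.assoc, ← Category.assoc, hab'])
    have h1 := hx i k R ra rb (by ext1; exact hab')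
    have h2 := congrArg (fun z => (sh hs R z).1) h1
    simp only [sh_map, FO.map_val] at h2
    let e : W ⟶ ov R := Over.homMk (𝟙 _) (by rw [hRW]; exact Category.id_comp _)
    have ea : e ≫ ovMap ra = a := by ext1; exact Category.id_comp _
    have eb : e ≫ ovMap rb = b := by ext1; exact Category.id_comp _
    change G.map a.op _ = G.map b.op _
    rw [← ea, ← eb, map_comp_apply, map_comp_apply, h2])
  have hy' : ∀ i, G.map (ovMap (f i)).op y = (sh hs _ (x i)).1 := hy
  have hπ : p.π y = toK T := by
    apply hom_ext_etCov 𝒰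
    intro i
    change ovMap (f i) ≫ p.π y = ovMap (f i) ≫ toK T
    rw [← p.nat, hy', ovMap_toK, (sh hs _ (x i)).2]
  refine ⟨(sh hs T).symm ⟨y, hπ⟩, fun i => ?_, fun z hz => ?_⟩
  · apply (sh hs (T' i)).injective
    rw [sh_map, Equiv.apply_symm_apply]
    exact Subtype.ext (hy' i)
  · apply (sh hs T).injective
    rw [Equiv.apply_symm_apply]
    apply Subtype.ext
    apply hyu
    intro i
    have h1 := congrArg (fun z => (sh hs _ z).1) (hz i)
    simp only [sh_map, FO.map_val] at h1
    exact h1

/-- `T` over `V`, as a scheme over `S` through `V ⟶ K`, maps to `V`. -/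
noncomputable def toV {κ : K.left} (c : Chart p κ) (T : Over c.V.left) :
    ov ((Over.map c.j.left).obj T) ⟶ c.V :=
  Over.homMk T.hom (by
    change T.hom ≫ c.V.hom = (T.hom ≫ c.j.left) ≫ K.hom
    rw [Category.assoc, Over.w])

lemma toV_j {κ : K.left} (c : Chart p κ) (T : Over c.V.left) :
    toV c T ≫ c.j = toK ((Over.map c.j.left).obj T) := by
  ext1
  rfl

/-- A point of `A` over `V`. -/
noncomputable def ptA {κ : K.left} (c : Chart p κ) {T : Over c.V.left} (g : T ⟶ Over.mk c.a.left) :
    ov ((Over.map c.j.left).obj T) ⟶ c.A :=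
  Over.homMk g.left (by
    change g.left ≫ c.A.hom = (T.hom ≫ c.j.left) ≫ K.hom
    have h1 : g.left ≫ c.a.left = T.hom := Over.w g
    rw [← h1, ← Over.w c.a, ← Over.w c.j]
    simp only [Category.assoc])

lemma ptA_a {κ : K.left} (c : Chart p κ) {T : Over c.V.left} (g : T ⟶ Over.mk c.a.left) :
    ptA c g ≫ c.a = toV c T := by
  ext1
  exact Over.w g

/-- The chart represents the restriction of the fibre sheaf. -/
noncomputable def reprChart (hs : ∀ T, Small.{u} (FO p T)) {κ : K.left} (c : Chart p κ) :
    ((Over.map c.j.left).op ⋙ FS hs).RepresentableBy (Over.mk c.a.left) where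
  homEquiv {T} := Equiv.ofBijective
    (fun g => (sh hs _).symm ⟨G.map (ptA c g).op c.ξ, by
      rw [p.nat, c.univ.1, ← Category.assoc, ptA_a, toV_j]⟩) (by
    constructor
    · intro g g' h
      have h1 := (sh hs _).symm.injective h
      have h2 : G.map (ptA c g).op c.ξ = G.map (ptA c g').op c.ξ := congrArg Subtype.val h1
      have h3 := (c.univ.2 _ (toV c T) (G.map (ptA c g').op c.ξ) (by
        rw [p.nat, c.univ.1, ← Category.assoc, ptA_a])).unique
          ⟨ptA_a c g, h2⟩ ⟨ptA_a c g', rfl⟩
      have h4 : (ptA c g).left = (ptA c g').left := congrArg CommaMorphism.left h3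
      ext1
      exact h4
    · intro x
      obtain ⟨g, ⟨hg1, hg2⟩, -⟩ := c.univ.2 _ (toV c T) (sh hs _ x).1 (by
        rw [(sh hs _ x).2, toV_j])
      refine ⟨Over.homMk g.left (congrArg CommaMorphism.left hg1), ?_⟩
      apply (sh hs _).injective
      rw [Equiv.apply_symm_apply]
      apply Subtype.ext
      exact hg2)
  homEquiv_comp {T T'} g g' := by
    apply (sh hs _).injective
    change (sh hs _) ((sh hs _).symm _) = (sh hs _) ((FS hs).map ((Over.map c.j.left).map g).op _)
    rw [sh_map, Equiv.apply_symm_apply]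
    apply Subtype.ext
    rw [FO.map_val]
    change _ = G.map _ ((sh hs _) ((sh hs _).symm _)).1
    rw [Equiv.apply_symm_apply, ← map_comp_apply]
    rfl

end fiber

/-- Base change of a representation. -/
noncomputable def reprPull {B B' : Scheme.{u}} (v : B' ⟶ B) {F : (Over B)ᵒᵖ ⥤ Type u} {A : Over B}
    (r : F.RepresentableBy A) : ((Over.map v).op ⋙ F).RepresentableBy ((Over.pullback v).obj A) where
  homEquiv {T} := ((Over.mapPullbackAdj v).homEquiv T A).symm.trans r.homEquiv
  homEquiv_comp {T T'} g g' := by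
    change r.homEquiv (((Over.mapPullbackAdj v).homEquiv T A).symm (g ≫ g')) =
      F.map ((Over.map v).map g).op (r.homEquiv (((Over.mapPullbackAdj v).homEquiv T' A).symm g'))
    rw [← r.homEquiv_comp, Adjunction.homEquiv_naturality_left_symm]

/-- **Relative étale-local representability.** -/
theorem exists_of_etale_affine (hG : IsEtSheaf G) (p : ToSch G K)
    (C : ∀ κ : K.left, Nonempty (Chart p κ)) :
    ∃ (P : Over S) (Z : G.obj (op P)), IsAffineHom (p.π Z).left ∧
      ∀ (T : Over S) (x : G.obj (op T)), ∃! g : T ⟶ P, G.map g.op Z = x := by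
  have hs : ∀ T, Small.{u} (FO p T) := small_FO hG (fun κ => (C κ).some)
  obtain ⟨A, ⟨r⟩⟩ := Groth.Agent.Sga3B.RepDescent.exists_representableBy_of_etale (isEtSheaf_FS hG hs) (by
    intro κ
    let c := (C κ).some
    refine ⟨c.V.left, c.j.left, inferInstance, c.mem, Over.mk c.a.left, ⟨reprChart hs c⟩, ?_⟩
    intro U hU
    have : IsAffine c.A.left := isAffine_of_isAffineHom c.a.left
    have hW : IsAffineOpen (⊤ : c.A.left.Opens) := isAffineOpen_top _
    exact Groth.Agent.Sga3B.RepDescent.isQuasiAffine_of_le le_top hW hU)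
  have haff : IsAffineHom A.hom := by
    apply Groth.Agent.Sga3B.RepDescent.of_etale_cover (P := @IsAffineHom)
    intro κ
    let c := (C κ).some
    refine ⟨c.V.left, c.j.left, inferInstance, c.mem, ?_⟩
    let e := (reprPull c.j.left r).uniqueUpToIso (reprChart hs c)
    have h1 : IsAffineHom (Over.mk c.a.left : Over c.V.left).hom := inferInstanceAs (IsAffineHom c.a.left)
    have h2 : IsAffineHom ((Over.pullback c.j.left).obj A).hom := by
      rw [← Over.w e.hom]
      exact MorphismProperty.comp_mem (W := @IsAffineHom) _ _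
        (inferInstanceAs (IsAffineHom ((Over.forget _).mapIso e).hom)) h1
    exact h2
  let z : FO p A := sh hs A (r.homEquiv (𝟙 A))
  have hz : p.π z.1 = toK A := z.2
  refine ⟨ov A, z.1, by rw [hz]; exact haff, ?_⟩
  have key : ∀ (T : Over K.left) (x : FO p T), ∃! g : T ⟶ A, FO.map p g z = x := by
    intro T x
    refine ⟨r.homEquiv.symm ((sh hs T).symm x), ?_, ?_⟩
    · change FO.map p _ z = x
      rw [← sh_map, ← r.homEquiv_comp, Category.comp_id, Equiv.apply_symm_apply, Equiv.apply_symm_apply]
    · intro g hg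
      rw [← hg, ← sh_map, ← r.homEquiv_comp, Category.comp_id, Equiv.symm_apply_apply, Equiv.symm_apply_apply]
  intro T x
  let T' : Over K.left := Over.mk (p.π x).left
  have hT' : (ov T').hom = T.hom := Over.w (p.π x)
  let e : ov T' ⟶ T := Over.homMk (𝟙 _) (by rw [hT']; exact Category.id_comp _)
  let e' : T ⟶ ov T' := Over.homMk (𝟙 _) (by rw [hT']; exact Category.id_comp _)
  have he : e' ≫ e = 𝟙 T := by ext1; exact Category.id_comp _
  have he' : e ≫ e' = 𝟙 _ := by ext1; exact Category.id_comp _
  let x' : FO p T' := ⟨G.map e.op x, by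
    rw [p.nat]
    ext1
    exact Category.id_comp _⟩
  obtain ⟨g, hg, hgu⟩ := key T' x'
  refine ⟨e' ≫ ovMap g, ?_, ?_⟩
  · have h1 : G.map (ovMap g).op z.1 = G.map e.op x := congrArg Subtype.val hg
    change G.map (e' ≫ ovMap g).op z.1 = x
    rw [map_comp_apply, h1, ← map_comp_apply, he]
    simp
  · intro k hk
    have hk1 : k ≫ toK A = p.π x := by rw [← hz, ← p.nat, hk]
    let k' : T' ⟶ A := Over.homMk k.left (congrArg CommaMorphism.left hk1)
    have hk' : ovMap k' = e ≫ k := by
      ext1
      exact (Category.id_comp _).symm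
    have h1 : k' = g := by
      apply hgu
      apply Subtype.ext
      change G.map (ovMap k').op z.1 = G.map e.op x
      rw [hk', map_comp_apply, hk]
    rw [← h1, hk', ← Category.assoc, he, Category.id_comp]

end Groth.Agent.Pic13.H547.RelRep
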