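import Groth.Agent.Pic13.H602.Rig
import Groth.Agent.Ega3A.PicEtSh
import Groth.Agent.VarietyA.FinTriv

/-!
# Rigidifying invertible modules locally on the base

`exists_cover_rig`: if `W` is finite over `S`, an invertible module on `X_T` can be rigidified along `W_T`
Zariski-locally on `T`.
-/

set_option autoImplicit false
universe u

open CategoryTheory CategoryTheory.Limits AlgebraicGeometry TopologicalSpace Opposite
open Groth.Agent.Fdesc.LocGen Groth.Agent.Picfga.LineHom Groth.Agent.Picfga.LineFam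
  Groth.Agent.Picfga.LineDescent Groth.Agent.Picfga.HilbPull Groth.Agent.Pic13.H602.Rig
  Groth.Agent.Ega3A.PicEtSh


namespace Groth.Agent.Pic13.H547.RigSurj

variable {W X S : Scheme.{u}} (f : X ⟶ S) (w : W ⟶ X)

/-- The pullback of a module with a generator over an open subset through which the morphism factors is trivial. -/
lemma nonempty_iso_of_isGen {Y Y' : Scheme.{u}} (G : Y' ⟶ Y) {M : Y.Modules} {O : Y.Opens} {e : Γ(M, O)}
    (he : IsGen e) (hO : G ⁻¹ᵁ O = ⊤) :
    Nonempty ((Scheme.Modules.pullback G).obj M ≅ Coh.structureModule Y') := by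
  obtain ⟨ψ, -⟩ := Fam.exists_iso_of_gens' (G := G) (L := M) (L' := Coh.structureModule Y') (ι := PUnit.{u + 1})
    (U := fun _ => O) (by simpa using hO) (e := fun _ => e) (fun _ => he)
    (fun _ => one _) (fun _ => isGen_one _) (fun i j => ⟨1, by simp, by simp⟩)
  exact ⟨ψ⟩

/-- The cover of `T` by an open neighbourhood of every point. -/
noncomputable def nbCov (T : Over S) (O : T.left → T.left.Opens) (hO : ∀ t, t ∈ O t) : ECov T where
  ι := T.left
  V t := Over.mk ((O t).ι ≫ T.hom)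
  j t := Over.homMk (O t).ι rfl
  isEtale t := inferInstanceAs (Etale (O t).ι)
  covers t := ⟨t, ⟨t, hO t⟩, rfl⟩

/-- Every invertible module on `X_T` can be rigidified along `W_T` Zariski-locally on `T`, if `W` is finite over
`S`. -/
theorem exists_cover_rig [IsFinite (w ≫ f)] (T : Over S) (L : (PicF.XT f T).Modules) (hL : PicF.IsInvertible L) :
    ∃ 𝒰 : ECov T, ∀ i, ∃ R : RB (wT f w (𝒰.V i)),
      PicF.cl R.L = PicF.pullCl (PicF.XTmap f (𝒰.j i)) (PicF.cl L) := by
  let M := (Scheme.Modules.pullback (wT f w T)).obj L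
  have hM : PicF.IsInvertible M := isInvertible_pullback _ hL
  have hfin : IsFinite (pullback.snd (w ≫ f) T.hom) := inferInstance
  choose O e hO _ he using fun t : T.left => VarietyA.FinTriv.exists_isGen_preimage
    (pullback.snd (w ≫ f) T.hom) M hM t ⊤ trivial
  refine ⟨nbCov T O hO, fun t => ?_⟩
  let j : (nbCov T O hO).V t ⟶ T := (nbCov T O hO).j t
  have hj : PicF.XTmap (w ≫ f) j ⁻¹ᵁ (pullback.snd (w ≫ f) T.hom ⁻¹ᵁ O t) = ⊤ := by
    have h1 : PicF.XTmap (w ≫ f) j ≫ pullback.snd (w ≫ f) T.hom =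
        pullback.snd (w ≫ f) ((nbCov T O hO).V t).hom ≫ (O t).ι := XTmap_snd _ _
    have h2 : (O t).ι ⁻¹ᵁ (O t) = ⊤ := Scheme.Opens.ι_preimage_self _
    rw [← Scheme.Hom.comp_preimage, h1, Scheme.Hom.comp_preimage]
    change pullback.snd (w ≫ f) ((nbCov T O hO).V t).hom ⁻¹ᵁ ((O t).ι ⁻¹ᵁ (O t)) = ⊤
    exact congrArg (fun U => pullback.snd (w ≫ f) ((nbCov T O hO).V t).hom ⁻¹ᵁ U) h2
  obtain ⟨ψ⟩ := nonempty_iso_of_isGen (PicF.XTmap (w ≫ f) j) (he t) hj
  have hcl : PicF.cl (Coh.structureModule (PicF.XT (w ≫ f) ((nbCov T O hO).V t))) =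
      PicF.pullCl (wT f w ((nbCov T O hO).V t))
        (PicF.cl ((Scheme.Modules.pullback (PicF.XTmap f j)).obj L)) := by
    rw [← pullCl_cl, ← Groth.Agent.Picfga.RigSheaf.pullCl_comp, wT_XTmap,
      Groth.Agent.Picfga.RigSheaf.pullCl_comp, pullCl_cl, pullCl_cl]
    exact cl_eq_iff.2 ⟨ψ.symm⟩
  obtain ⟨ρ⟩ := Fam.nonempty_of_cl_eq hcl
  exact ⟨⟨(Scheme.Modules.pullback (PicF.XTmap f j)).obj L, isInvertible_pullback _ hL, ρ⟩, rfl⟩

end Groth.Agent.Pic13.H547.RigSurj
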