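import Mathlib.AlgebraicGeometry.Morphisms.QuasiFinite
import Mathlib.AlgebraicGeometry.Morphisms.Proper
import Mathlib.AlgebraicGeometry.Morphisms.Finite
import Mathlib.AlgebraicGeometry.IdealSheaf.Subscheme
import Mathlib.AlgebraicGeometry.Noetherian
import Mathlib.RingTheory.Filtration
import Groth.Agent.Pic13.H547.CFField

/-!
# Rigidificators

`exists_rigidifier`: a proper scheme `X` over a field has a closed subscheme `Y`, finite over the field, with
`Γ(X, O) → Γ(Y, O)` injective; `exists_rigidifier_le`: `Y` may be chosen to contain the image of a given finite scheme.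
-/

set_option autoImplicit false
universe u

open CategoryTheory CategoryTheory.Limits AlgebraicGeometry TopologicalSpace Opposite

namespace Groth.Agent.Pic13.H547.Rigidifier

/-- A scheme of finite type over a field with finitely many points is finite. -/
theorem isFinite_of_finite (k : Type u) [Field k] {Z : Scheme.{u}} (g : Z ⟶ Spec (CommRingCat.of k))
    [LocallyOfFiniteType g] [Finite Z] : IsFinite g := by
  have : CompactSpace Z := inferInstance
  have h1 : QuasiCompact g := (quasiCompact_iff_compactSpace g).mpr inferInstance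
  have h2 : LocallyQuasiFinite g := .of_finite_preimage_singleton _ fun x => Set.toFinite _
  exact IsFinite.of_locallyQuasiFinite g

lemma support_inf_le {X : Scheme.{u}} (I J : X.IdealSheafData) :
    ((I ⊓ J).support : Set X) ⊆ I.support ∪ J.support := by
  intro x hx
  by_contra h
  simp only [Set.mem_union, not_or] at h
  obtain ⟨_, ⟨U, hU, rfl⟩, hxU, -⟩ :=
    X.isBasis_affineOpens.exists_subset_of_mem_open (Set.mem_univ x) isOpen_univ
  have hI : x ∉ X.zeroLocus (U := U) (I.ideal ⟨U, hU⟩) := fun hc =>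
    h.1 ((Scheme.IdealSheafData.coe_support_inter I ⟨U, hU⟩).ge ⟨hc, hxU⟩).1
  have hJ : x ∉ X.zeroLocus (U := U) (J.ideal ⟨U, hU⟩) := fun hc =>
    h.2 ((Scheme.IdealSheafData.coe_support_inter J ⟨U, hU⟩).ge ⟨hc, hxU⟩).1
  have hIJ : x ∈ X.zeroLocus (U := U) ((I ⊓ J).ideal ⟨U, hU⟩) :=
    ((Scheme.IdealSheafData.coe_support_inter (I ⊓ J) ⟨U, hU⟩).le ⟨hx, hxU⟩).1
  rw [Scheme.mem_zeroLocus_iff] at hI hJ hIJ
  push Not at hI hJ
  obtain ⟨a, ha, hxa⟩ := hI
  obtain ⟨b, hb, hxb⟩ := hJ
  refine hIJ (a * b) ?_ ?_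
  · exact ⟨Ideal.mul_mem_right _ _ ha, Ideal.mul_mem_left _ _ hb⟩
  · rw [Scheme.basicOpen_mul]
    exact ⟨hxa, hxb⟩

/-- Functions on a smaller closed subscheme have a bigger kernel. -/
lemma ker_appTop_le {X : Scheme.{u}} {I J : X.IdealSheafData} (h : I ≤ J) :
    RingHom.ker I.subschemeι.appTop.hom ≤ RingHom.ker J.subschemeι.appTop.hom := by
  intro s hs
  rw [RingHom.mem_ker] at hs ⊢
  have h1 := Scheme.Hom.comp_appTop (Scheme.IdealSheafData.inclusion h) I.subschemeι
  rw [Scheme.IdealSheafData.inclusion_subschemeι] at h1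
  rw [h1, CommRingCat.hom_comp, RingHom.comp_apply, hs, map_zero]

/-- Functions vanishing on the scheme theoretic image vanish after pull back. -/
lemma ker_appTop_ker_le {X W : Scheme.{u}} (w : W ⟶ X) :
    RingHom.ker w.ker.subschemeι.appTop.hom ≤ RingHom.ker w.appTop.hom := by
  intro s hs
  rw [RingHom.mem_ker] at hs ⊢
  have h1 := Scheme.Hom.comp_appTop w.toImage w.imageι
  rw [Scheme.Hom.toImage_imageι] at h1
  have h2 : w.imageι.appTop.hom s = 0 := hs
  rw [h1, CommRingCat.hom_comp, RingHom.comp_apply, h2, map_zero]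

/-- A nonzero function on a Noetherian scheme is not in `m_x ^ n` for some closed point `x` and some `n`. -/
theorem exists_closed_point {X : Scheme.{u}} [IsLocallyNoetherian X] [CompactSpace X] (s : Γ(X, ⊤)) (hs : s ≠ 0) :
    ∃ (x : X) (n : ℕ), IsClosed ({x} : Set X) ∧
      (X.presheaf.germ ⊤ x trivial).hom s ∉ (IsLocalRing.maximalIdeal (X.presheaf.stalk x)) ^ n := by
  let C : Set X := {x | (X.presheaf.germ ⊤ x trivial).hom s ≠ 0}
  have hC : IsClosed C := by
    rw [← isOpen_compl_iff, isOpen_iff_forall_mem_open]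
    intro x hx
    have hx' : (X.presheaf.germ ⊤ x trivial).hom s = 0 := by
      by_contra hc
      exact hx hc
    obtain ⟨V, hxV, iV, iV', hV⟩ := TopCat.Presheaf.germ_eq X.presheaf (U := ⊤) (V := ⊤) x trivial trivial s 0
      (by rw [map_zero]; exact hx')
    refine ⟨V, fun y hy hc => hc ?_, V.isOpen, hxV⟩
    have h1 := TopCat.Presheaf.germ_res_apply X.presheaf iV y hy s
    rw [hV, map_zero, map_zero] at h1
    exact h1.symm
  have hne : C.Nonempty := by
    by_contra hc
    rw [Set.not_nonempty_iff_eq_empty] at hc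
    apply hs
    refine TopCat.Presheaf.section_ext X.sheaf ⊤ s 0 fun x hx => ?_
    have h1 : ¬ (X.presheaf.germ ⊤ x trivial).hom s ≠ 0 := fun h => by
      have : x ∈ C := h
      rw [hc] at this
      exact this
    have h2 : (X.presheaf.germ ⊤ x trivial).hom s = 0 := not_not.mp h1
    change (X.presheaf.germ ⊤ x trivial).hom s = (X.presheaf.germ ⊤ x trivial).hom 0
    rw [h2, map_zero]
  obtain ⟨x, hx, hxc⟩ := IsClosed.exists_closed_singleton hC hne
  have hn : IsNoetherianRing (X.presheaf.stalk x) := inferInstance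
  have h1 := Ideal.iInf_pow_eq_bot_of_isLocalRing (IsLocalRing.maximalIdeal (X.presheaf.stalk x))
    (IsLocalRing.maximalIdeal.isMaximal _).ne_top
  have h2 : (X.presheaf.germ ⊤ x trivial).hom s ∉
      (⨅ n : ℕ, (IsLocalRing.maximalIdeal (X.presheaf.stalk x)) ^ n) := by
    rw [h1]
    exact hx
  rw [Ideal.mem_iInf] at h2
  push Not at h2
  obtain ⟨n, hn⟩ := h2
  exact ⟨x, n, hxc, hn⟩

/-- A nonzero function does not vanish on some closed subscheme supported in a closed point. -/
theorem exists_ideal {X : Scheme.{u}} [IsLocallyNoetherian X] [CompactSpace X] (s : Γ(X, ⊤)) (hs : s ≠ 0) :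
    ∃ I : X.IdealSheafData, (I.support : Set X).Finite ∧ I.subschemeι.appTop.hom s ≠ 0 := by
  obtain ⟨x, n, hx, hn⟩ := exists_closed_point s hs
  let Q := (X.presheaf.stalk x) ⧸ (IsLocalRing.maximalIdeal (X.presheaf.stalk x)) ^ n
  let q : X.presheaf.stalk x ⟶ CommRingCat.of Q := CommRingCat.ofHom (Ideal.Quotient.mk _)
  let w : Spec (CommRingCat.of Q) ⟶ X := Spec.map q ≫ X.fromSpecStalk x
  have hqc : QuasiCompact w := (quasiCompact_iff_compactSpace w).mpr inferInstance
  refine ⟨w.ker, ?_, fun h0 => hn ?_⟩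
  · rw [Scheme.Hom.support_ker]
    refine Set.Finite.subset (Set.finite_singleton x) ?_
    refine closure_minimal ?_ hx
    rintro _ ⟨y, rfl⟩
    have hy : Spec.map q y = IsLocalRing.closedPoint (X.presheaf.stalk x) := by
      apply PrimeSpectrum.ext
      refine (IsLocalRing.eq_maximalIdeal ?_)
      have hp : (Spec.map q y).asIdeal.IsPrime := (Spec.map q y).isPrime
      have hle : IsLocalRing.maximalIdeal (X.presheaf.stalk x) ≤ (Spec.map q y).asIdeal := by
        apply Ideal.IsPrime.le_of_pow_le (n := n)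
        intro a ha
        change q.hom a ∈ y.asIdeal
        have h0 : Ideal.Quotient.mk ((IsLocalRing.maximalIdeal (X.presheaf.stalk x)) ^ n) a = 0 :=
          Ideal.Quotient.eq_zero_iff_mem.mpr ha
        have h0' : q.hom a = 0 := h0
        rw [h0']
        exact Ideal.zero_mem _
      rw [← Ideal.IsMaximal.eq_of_le (IsLocalRing.maximalIdeal.isMaximal _) hp.ne_top hle]
      exact IsLocalRing.maximalIdeal.isMaximal _
    change X.fromSpecStalk x (Spec.map q y) ∈ ({x} : Set X)
    rw [hy, Scheme.fromSpecStalk_closedPoint]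
    rfl
  · have h1 : w.appTop.hom s = 0 := ker_appTop_ker_le w h0
    have h2 : w.appTop = X.presheaf.germ ⊤ x trivial ≫ q ≫ (Scheme.ΓSpecIso (CommRingCat.of Q)).inv := by
      rw [Scheme.Hom.comp_appTop, Scheme.fromSpecStalk_appTop, Scheme.ΓSpecIso_inv_naturality]
      have h3 : (Spec (X.presheaf.stalk x)).presheaf.map (homOfLE (le_top (a := (⊤ : (Spec
          (X.presheaf.stalk x)).Opens)))).op = 𝟙 _ := (Spec (X.presheaf.stalk x)).presheaf.map_id _
      rw [h3, Category.comp_id, Category.assoc]
    rw [h2] at h1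
    have h3 : q.hom ((X.presheaf.germ ⊤ x trivial).hom s) = 0 := by
      have h4 : (Scheme.ΓSpecIso (CommRingCat.of Q)).inv.hom (q.hom ((X.presheaf.germ ⊤ x trivial).hom s)) = 0 := h1
      have h5 : Function.Injective (Scheme.ΓSpecIso (CommRingCat.of Q)).inv.hom :=
        (ConcreteCategory.bijective_of_isIso (Scheme.ΓSpecIso (CommRingCat.of Q)).inv).1
      exact h5 (by rw [h4, map_zero])
    exact Ideal.Quotient.eq_zero_iff_mem.mp h3

variable (k : Type u) [Field k] {X : Scheme.{u}} (f : X ⟶ Spec (CommRingCat.of k))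

/-- A closed subscheme of a proper scheme over a field with finite support is finite. -/
theorem isFinite_of_support_finite [LocallyOfFiniteType f] (I : X.IdealSheafData)
    (h : (I.support : Set X).Finite) : IsFinite (I.subschemeι ≫ f) := by
  have h1 : Finite (I.support : Set X) := h
  have h2 : Finite I.subscheme := by
    apply Finite.of_injective (fun x : I.subscheme => (⟨I.subschemeι x, by
      rw [← Scheme.IdealSheafData.range_subschemeι]; exact ⟨x, rfl⟩⟩ : (I.support : Set X)))
    intro x y hxy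
    exact I.subschemeι.isEmbedding.injective (congrArg Subtype.val hxy)
  exact isFinite_of_finite k _

/-- The support of the kernel of a morphism from a finite scheme is finite. -/
theorem support_ker_finite [IsSeparated f] {W : Scheme.{u}} (w : W ⟶ X) [IsFinite (w ≫ f)] :
    (w.ker.support : Set X).Finite := by
  have h1 : IsProper w := IsProper.of_comp w f
  rw [Scheme.Hom.support_ker, w.isClosedMap.isClosed_range.closure_eq]
  have h2 : Finite W := by
    have h3 := (w ≫ f).finite_preimage_singleton (IsLocalRing.closedPoint k)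
    refine Set.finite_univ_iff.mp (h3.subset fun x _ => ?_)
    exact Subsingleton.elim (α := PrimeSpectrum k) _ _
  exact Set.toFinite _

/-- Rigidificators containing a given closed subscheme with finite support. -/
theorem exists_le [IsProper f] (J₀ : X.IdealSheafData) (hJ₀ : (J₀.support : Set X).Finite) :
    ∃ I : X.IdealSheafData, I ≤ J₀ ∧ (I.support : Set X).Finite ∧ Function.Injective I.subschemeι.appTop.hom := by
  have hX : IsLocallyNoetherian X := LocallyOfFiniteType.isLocallyNoetherian f
  have hc : CompactSpace X := QuasiCompact.compactSpace_of_compactSpace f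
  have hF : IsField Γ(Spec (CommRingCat.of k), ⊤) := CFField.isField_Γ k
  have hA : IsArtinianRing Γ(X, ⊤) := by
    let _ : Field Γ(Spec (CommRingCat.of k), ⊤) := hF.toField
    have h1 : f.appTop.hom.Finite := FlatA.SteinNoeth.finite_appTop f
    algebraize [f.appTop.hom]
    exact IsArtinianRing.of_finite Γ(Spec (CommRingCat.of k), ⊤) Γ(X, ⊤)
  let 𝒦 : Set (Ideal Γ(X, ⊤)) := {K | ∃ I : X.IdealSheafData, I ≤ J₀ ∧ (I.support : Set X).Finite ∧
    K = RingHom.ker I.subschemeι.appTop.hom}
  obtain ⟨K, ⟨I, hI, hfin, rfl⟩, hmin⟩ := IsArtinian.set_has_minimal 𝒦 ⟨_, J₀, le_rfl, hJ₀, rfl⟩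
  refine ⟨I, hI, hfin, ?_⟩
  rw [injective_iff_map_eq_zero]
  intro s hs
  by_contra hne
  obtain ⟨I', hI', hs'⟩ := exists_ideal s hne
  apply hmin (RingHom.ker (I ⊓ I').subschemeι.appTop.hom) ⟨I ⊓ I', inf_le_left.trans hI,
    (hfin.union hI').subset (support_inf_le _ _), rfl⟩
  refine lt_of_le_of_ne (ker_appTop_le inf_le_left) fun he => ?_
  have h1 : s ∈ RingHom.ker (I ⊓ I').subschemeι.appTop.hom := by
    rw [he]
    exact hs
  exact hs' (ker_appTop_le inf_le_right h1)

/-- **Existence of rigidificators.** -/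
theorem exists_rigidifier [IsProper f] : ∃ I : X.IdealSheafData, IsFinite (I.subschemeι ≫ f) ∧
    Function.Injective I.subschemeι.appTop.hom := by
  obtain ⟨I, -, h1, h2⟩ := exists_le k f ⊤ (by
    rw [Scheme.IdealSheafData.support_top]
    exact Set.finite_empty)
  exact ⟨I, isFinite_of_support_finite k f I h1, h2⟩

/-- Rigidificators through which a given morphism from a finite scheme factors. -/
theorem exists_rigidifier_le [IsProper f] {W : Scheme.{u}} (w : W ⟶ X) [IsFinite (w ≫ f)] :
    ∃ (I : X.IdealSheafData) (j : W ⟶ I.subscheme), I ≤ w.ker ∧ j ≫ I.subschemeι = w ∧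
      IsFinite (I.subschemeι ≫ f) ∧ Function.Injective I.subschemeι.appTop.hom := by
  obtain ⟨I, h, h1, h2⟩ := exists_le k f w.ker (support_ker_finite k f w)
  refine ⟨I, w.toImage ≫ Scheme.IdealSheafData.inclusion h, h, ?_, isFinite_of_support_finite k f I h1, h2⟩
  rw [Category.assoc, Scheme.IdealSheafData.inclusion_subschemeι]
  exact w.toImage_imageι

end Groth.Agent.Pic13.H547.Rigidifier
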