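import Groth.Agent.Pic13.H547.FinalQuot
import Groth.Agent.Pic13.H547.UnitMap
import Groth.Agent.Pic13.H547.RigSurj
import Groth.Agent.Pic13.H547.CFField
import Groth.Agent.Pic13.H557.RigGrp
import Groth.Agent.Pic13.H602.InjField
import Groth.Agent.Pic13.H955.RepDef
import Groth.Agent.Localalg.GrpSchComp2

/-!
# From the rigidified Picard functor to the Picard functor over a field

`rule7`: `k` a field, `f : X ⟶ Spec k` proper. If for some rigidificator `w : W ⟶ X` (`W` finite over `k`,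
`Γ(X, O) → Γ(W, O)` injective) the rigidified Picard functor `rigF f w` is representable by a scheme locally of finite
type, then the Picard functor of `f` is representable by a separated scheme locally of finite type.
-/

set_option autoImplicit false
universe u

open CategoryTheory CategoryTheory.Limits AlgebraicGeometry Opposite MonoidalCategory CartesianMonoidalCategory
  MonObj GrpObj
open Groth.Agent.Ega3A.PicDiv Groth.Agent.Ega3A.PicEtSh Groth.Agent.Grpsch.PicGrp
open Groth.Agent.Ega3A.PicSheaf Groth.Agent.Ega3A.PicRep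
open Groth.Agent.Pic13.H547.SecSheaf Groth.Agent.Pic13.H547.UnitGrp Groth.Agent.Pic13.H547.UnitMap
open Groth.Agent.Pic13.H602.Rig Groth.Agent.Pic13.H557.RigGrp Groth.Agent.Pic13.H955.FinDesc

namespace Groth.Agent.Pic13.H547.Rule7

section RigRep

variable {W X S : Scheme.{u}} (f : X ⟶ S) (w : W ⟶ X)

/-- The rigidified functor with values in groups. -/
noncomputable def rigGrpF : (Over S)ᵒᵖ ⥤ GrpCat.{u + 1} where
  obj T := GrpCat.of (RCl (wT f w T.unop))
  map g := GrpCat.ofHom (pullHom (wT_XTmap f w g.unop))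
  map_id T := by
    ext c : 2
    exact ConcreteCategory.congr_hom ((rigF f w).map_id T) c
  map_comp g h := by
    ext c : 2
    exact ConcreteCategory.congr_hom ((rigF f w).map_comp g h) c

/-- `P` represents the rigidified functor as a group. -/
structure RigRep (P : Over S) [GrpObj P] where
  /-- the bijection on points -/
  e : ∀ T : Over S, (T ⟶ P) ≃* RCl (wT f w T)
  nat : ∀ {T T' : Over S} (g : T' ⟶ T) (a : T ⟶ P), e T' (g ≫ a) = RCl.pull (wT_XTmap f w g) (e T a)

variable {f w}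

theorem exists_rigRep {P : Over S} {ξ : (rigF f w).obj (op P)} (h : IsUniv (rigF f w) P ξ) :
    ∃ _ : GrpObj P, Nonempty (RigRep f w P) := by
  let e₀ : ∀ T : Over S, (T ⟶ P) ≃ RCl (wT f w T) := fun T =>
    Equiv.ofBijective (fun g => (rigF f w).map g.op ξ)
      ⟨fun g g' hg => (h T _).unique hg rfl, fun x => (h T x).exists⟩
  have hn : ∀ {T T' : Over S} (g : T' ⟶ T) (a : T ⟶ P),
      e₀ T' (g ≫ a) = RCl.pull (wT_XTmap f w g) (e₀ T a) := fun {T T'} g a =>
    ConcreteCategory.congr_hom ((rigF f w).map_comp a.op g.op) ξ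
  let R : (rigGrpF f w ⋙ forget _).RepresentableBy P :=
    { homEquiv := fun {T} => e₀ T
      homEquiv_comp := fun {T T'} g a => hn g a }
  obtain ⟨G, hG⟩ := exists_grpObj P (rigGrpF f w) R
  exact ⟨G, ⟨{ e := fun T => { e₀ T with map_mul' := fun a b => hG T a b }, nat := hn }⟩⟩

/-- The homomorphism from the units of `W`. -/
theorem exists_delta {P : Over S} [GrpObj P] (R : RigRep f w P) (U : Rep (w ≫ f)) :
    ∃ δ : U.U ⟶ P, IsMonHom δ ∧ ∀ (T : Over S) (c : T ⟶ U.U), R.e T (c ≫ δ) = unitCl (wT f w T) (U.e T c) := by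
  obtain ⟨δ, h1, h2⟩ := exists_hom_of_points (U := U.U) (V := P)
    (fun T a => (R.e T).symm (unitCl (wT f w T) (U.e T a))) (fun {T T'} g a => by
      apply (R.e T').injective
      rw [MulEquiv.apply_symm_apply, R.nat, MulEquiv.apply_symm_apply, U.nat, pull_unitCl]
      rfl) (fun T a b => by
      rw [map_mul, map_mul, map_mul])
  refine ⟨δ, h1, fun T a => ?_⟩
  rw [h2, MulEquiv.apply_symm_apply]

theorem isKernel_delta {P : Over S} [GrpObj P] (R : RigRep f w P) (U : Rep (w ≫ f)) (K : Rep f)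
    (hI : ∀ T : Over S, Function.Injective (wT f w T).appTop)
    (κ : K.U ⟶ U.U) (hκ : ∀ (T : Over S) (a : T ⟶ K.U), U.e T (a ≫ κ) = resU f w T (K.e T a))
    (δ : U.U ⟶ P) (hδ : ∀ (T : Over S) (c : T ⟶ U.U), R.e T (c ≫ δ) = unitCl (wT f w T) (U.e T c)) :
    AlgGrp.IsKernel κ δ := by
  apply isKernel_of_points
  · intro T a b hab
    apply (K.e T).injective
    apply resU_injective f w T (hI T)
    rw [← hκ, ← hκ, hab]
  · intro T c
    rw [← (R.e T).injective.eq_iff, hδ, map_one, unitCl_eq_one_iff]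
    constructor
    · rintro ⟨a, ha⟩
      refine ⟨(K.e T).symm a, ?_⟩
      apply (U.e T).injective
      rw [hκ, MulEquiv.apply_symm_apply, ← ha]
      rfl
    · rintro ⟨a, rfl⟩
      refine ⟨K.e T a, ?_⟩
      rw [hκ]
      rfl

end RigRep

section Field

variable (k : Type u) [Field k] {X W : Scheme.{u}} (f : X ⟶ Spec (CommRingCat.of k)) (w : W ⟶ X)

theorem rigData [IsFinite (w ≫ f)] {P : Over (Spec (CommRingCat.of k))} [GrpObj P] (R : RigRep f w P)
    (U : Rep (w ≫ f)) (δ : U.U ⟶ P)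
    (hδ : ∀ (T : Over (Spec (CommRingCat.of k))) (c : T ⟶ U.U),
      R.e T (c ≫ δ) = unitCl (wT f w T) (U.e T c)) :
    FinalQuot.RigData k f δ (fun T r => toPic (wT f w T) (R.e T r)) := by
  have hnat : ∀ {T T' : Over (Spec (CommRingCat.of k))} (g : T' ⟶ T) (r : T ⟶ P),
      toPic (wT f w T') (R.e T' (g ≫ r)) = pu f g (toPic (wT f w T) (R.e T r)) := by
    intro T T' g r
    rw [R.nat, toPic_pull]
  refine ⟨?_, ?_, ?_, ?_, ?_⟩
  · intro T T' g r
    rw [hnat]
    exact LocEq.refl _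
  · intro T r s
    rw [map_mul, map_mul]
    exact LocEq.refl _
  · intro T c
    rw [hδ, toPic_eq_one_iff.mpr ⟨_, rfl⟩]
    exact LocEq.refl _
  · intro T r hr
    obtain ⟨𝒰, h𝒰⟩ := hr
    refine ⟨𝒰, fun i => ?_⟩
    have h1 : toPic (wT f w (𝒰.V i)) (R.e (𝒰.V i) (𝒰.j i ≫ r)) = 1 := by
      rw [hnat, h𝒰 i, map_one]
    obtain ⟨u, hu⟩ := toPic_eq_one_iff.mp h1
    refine ⟨(U.e (𝒰.V i)).symm u, ?_⟩
    apply (R.e (𝒰.V i)).injective
    rw [hδ, MulEquiv.apply_symm_apply, hu]
  · intro T c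
    obtain ⟨⟨L, hL⟩, rfl⟩ := Quotient.exists_rep c
    obtain ⟨𝒰, h𝒰⟩ := RigSurj.exists_cover_rig f w T L hL
    refine ⟨𝒰, fun i => ?_⟩
    obtain ⟨R', hR'⟩ := h𝒰 i
    refine ⟨(R.e (𝒰.V i)).symm R'.cls, ?_⟩
    change LocEq f (𝒰.V i) (toPic (wT f w (𝒰.V i)) (R.e (𝒰.V i) ((R.e (𝒰.V i)).symm R'.cls)))
      (pu f (𝒰.j i) (mk L hL))
    rw [MulEquiv.apply_symm_apply, toPic_cls]
    have h1 : mk R'.L R'.inv = pu f (𝒰.j i) (mk L hL) := by
      rw [pu, pull_mk]
      rw [mk_eq_iff]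
      exact Groth.Agent.Picfga.LineDescent.cl_eq_iff.1 hR'
    rw [h1]
    exact LocEq.refl _

/-- **The final quotient.** -/
theorem representedBy_of_rigF [IsProper f] [IsFinite (w ≫ f)] (hinj : Function.Injective w.appTop)
    {P : Over (Spec (CommRingCat.of k))} {ξ : (rigF f w).obj (op P)} (h : IsUniv (rigF f w) P ξ)
    (hP : LocallyOfFiniteType P.hom) :
    ∃ Q : Over (Spec (CommRingCat.of k)), PicRel.RepresentedBy f Q ∧ IsSeparated Q.hom ∧
      LocallyOfFiniteType Q.hom := by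
  obtain ⟨gP, ⟨R⟩⟩ := exists_rigRep h
  obtain ⟨U⟩ := exists_rep (w ≫ f) (CFField.cf_of_field k (w ≫ f))
  obtain ⟨K⟩ := exists_rep f (CFField.cf_of_field k f)
  obtain ⟨δ, hδ, hδ'⟩ := exists_delta R U
  obtain ⟨κ, hκ, hκ'⟩ := exists_res K U
  have hc : CompactSpace X := QuasiCompact.compactSpace_of_compactSpace f
  have hq : QuasiSeparatedSpace X := quasiSeparatedSpace_of_quasiSeparated f
  have hc' : CompactSpace W := QuasiCompact.compactSpace_of_compactSpace (w ≫ f)
  have hq' : QuasiSeparatedSpace W := quasiSeparatedSpace_of_quasiSeparated (w ≫ f)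
  have hI := inj_of_field f w hinj
  have hker := isKernel_delta R U K hI κ hκ' δ hδ'
  have hsep : IsSeparated P.hom := Localalg.GrpSchComp2.isSeparated_hom P
  obtain ⟨Q, p, -, -, h1, h2, h3⟩ := FinalQuot.exists_quotient δ κ hker _ (rigData k f w R U δ hδ')
  exact ⟨Q, h1, h2, h3⟩

/-- **Rule (7).** -/
theorem rule7 [IsProper f] (h : H955.RepDef.Rep f) :
    ∃ Q : Over (Spec (CommRingCat.of k)), PicRel.RepresentedBy f Q ∧ IsSeparated Q.hom ∧
      LocallyOfFiniteType Q.hom := by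
  obtain ⟨W, w, hw, hinj, P, ξ, hξ, hP⟩ := h
  exact representedBy_of_rigF k f w hinj hξ hP

end Field

end Groth.Agent.Pic13.H547.Rule7
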