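import Groth.Agent.Models2.QuoRep
import Groth.Agent.Picfga.HilbPull
import Groth.Agent.Sga3B.GaPts

/-!
# `T ↦ Γ(X_T)` and `T ↦ Γ(X_T)ˣ` are étale sheaves

* `existsUnique_glue` : gluing of global functions on `X_T` along étale coverings of `T`;
* `secF f`, `unitF f` : the functors, `isEtSheaf_unitF`;
* `existsUnique_of_affine` : a universal element for affine test objects is universal (Zariski sheaves).
-/

set_option autoImplicit false
universe w u
open CategoryTheory CategoryTheory.Limits AlgebraicGeometry Opposite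
open Groth.Agent.Picfga.HilbPull Groth.Agent.Picfga.OverRep Groth.Agent.Models2.QuoRep

namespace Groth.Agent.Pic13.H547.SecSheaf

variable {X S : Scheme.{u}} (f : X ⟶ S)

/-- `X_T` as a scheme over `S`. -/
noncomputable abbrev XTO (T : Over S) : Over S := Over.mk (pullback.snd f T.hom ≫ T.hom)

/-- `X_T' ⟶ X_T` over `S`. -/
noncomputable abbrev XTOmap {T T' : Over S} (g : T' ⟶ T) : XTO f T' ⟶ XTO f T :=
  Over.homMk (PicF.XTmap f g) (by
    change PicF.XTmap f g ≫ pullback.snd f T.hom ≫ T.hom = pullback.snd f T'.hom ≫ T'.hom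
    rw [XTmap_snd_assoc, Over.w])

lemma XTOmap_comp {T T' T'' : Over S} (g : T' ⟶ T) (h : T'' ⟶ T') :
    XTOmap f (h ≫ g) = XTOmap f h ≫ XTOmap f g := by
  ext1
  exact XTmap_comp f h g

/-- The covering of `X_T` induced by an étale covering of `T`. -/
noncomputable def covX {T : Over S} (𝒰 : EtCov T) : EtCov (XTO f T) where
  ι := 𝒰.ι
  V i := XTO f (𝒰.V i)
  j i := XTOmap f (𝒰.j i)
  isEtale i := MorphismProperty.of_isPullback (P := @Etale) (isPullback_XTmap f (𝒰.j i)).flip (𝒰.isEtale i)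
  covers y := by
    obtain ⟨i, v, hv⟩ := 𝒰.covers (pullback.snd f T.hom y)
    obtain ⟨z, hz, -⟩ := Scheme.exists_preimage_of_isPullback (isPullback_XTmap f (𝒰.j i)) y v hv.symm
    exact ⟨i, z, hz⟩

/-- Gluing of global functions on `X_T` along étale coverings of `T`. -/
theorem existsUnique_glue {T : Over S} (𝒰 : EtCov T) (x : ∀ i, Γ(PicF.XT f (𝒰.V i), ⊤))
    (hx : ∀ (i k : 𝒰.ι) (W : Over S) (a : W ⟶ 𝒰.V i) (b : W ⟶ 𝒰.V k), a ≫ 𝒰.j i = b ≫ 𝒰.j k →
      (PicF.XTmap f a).appTop (x i) = (PicF.XTmap f b).appTop (x k)) :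
    ∃! y : Γ(PicF.XT f T, ⊤), ∀ i, (PicF.XTmap f (𝒰.j i)).appTop y = x i := by
  obtain ⟨g, hg⟩ := glue_hom_etCov (Y := Red.Ga S) (covX f 𝒰) (fun i => Sga3B.GaPts.gaPt (XTO f (𝒰.V i)) (x i)) (by
    intro i k W a₀ b₀ hab
    let a : W ⟶ XTO f (𝒰.V i) := a₀
    let b : W ⟶ XTO f (𝒰.V k) := b₀
    change a ≫ Sga3B.GaPts.gaPt (XTO f (𝒰.V i)) (x i) = b ≫ Sga3B.GaPts.gaPt (XTO f (𝒰.V k)) (x k)
    let c : W.left ⟶ PicF.XT f (𝒰.V i) := a.left
    let d : W.left ⟶ PicF.XT f (𝒰.V k) := b.left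
    have hcd : c ≫ PicF.XTmap f (𝒰.j i) = d ≫ PicF.XTmap f (𝒰.j k) := congrArg CommaMorphism.left hab
    have hcS : c ≫ pullback.snd f (𝒰.V i).hom ≫ (𝒰.V i).hom = W.hom := Over.w a
    have hdS : d ≫ pullback.snd f (𝒰.V k).hom ≫ (𝒰.V k).hom = W.hom := Over.w b
    have h1 := congrArg (fun z => z ≫ pullback.fst f T.hom) hcd
    have h2 := congrArg (fun z => z ≫ pullback.snd f T.hom) hcd
    simp only [Category.assoc, XTmap_fst, XTmap_snd] at h1 h2
    let a' : W ⟶ 𝒰.V i := Over.homMk (c ≫ pullback.snd f (𝒰.V i).hom) (by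
      rw [Category.assoc]; exact hcS)
    let b' : W ⟶ 𝒰.V k := Over.homMk (d ≫ pullback.snd f (𝒰.V k).hom) (by
      rw [Category.assoc]; exact hdS)
    have h3 : a' ≫ 𝒰.j i = b' ≫ 𝒰.j k := by
      ext1
      simpa [a', b'] using h2
    have h4 := hx i k W a' b' h3
    let e : W.left ⟶ PicF.XT f W := pullback.lift (c ≫ pullback.fst f (𝒰.V i).hom) (𝟙 _) (by
      rw [Category.id_comp, Category.assoc, pullback.condition]; exact hcS)
    have he1 : e ≫ PicF.XTmap f a' = c := by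
      apply pullback.hom_ext
      · simp only [e, Category.assoc, XTmap_fst, pullback.lift_fst]
      · simp only [e, Category.assoc, XTmap_snd, pullback.lift_snd_assoc, Category.id_comp]
        rfl
    have he2 : e ≫ PicF.XTmap f b' = d := by
      apply pullback.hom_ext
      · simp only [e, Category.assoc, XTmap_fst, pullback.lift_fst]
        exact h1
      · simp only [e, Category.assoc, XTmap_snd, pullback.lift_snd_assoc, Category.id_comp]
        rfl
    rw [Sga3B.GaPts.comp_gaPt, Sga3B.GaPts.comp_gaPt]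
    congr 1
    change c.appTop (x i) = d.appTop (x k)
    have h5 := congrArg (fun z => e.appTop z) h4
    simp only [← CommRingCat.comp_apply, ← Scheme.Hom.comp_appTop, he1, he2] at h5
    exact h5)
  have key : ∀ i, (PicF.XTmap f (𝒰.j i)).appTop (Red.gaFn g) = x i := by
    intro i
    have h0 : XTOmap f (𝒰.j i) ≫ g = Sga3B.GaPts.gaPt (XTO f (𝒰.V i)) (x i) := hg i
    have h1 := congrArg Red.gaFn h0
    rw [Sga3B.GaPts.gaFn_gaPt, Sga3B.GaPts.gaFn_comp] at h1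
    exact h1
  refine ⟨Red.gaFn g, key, ?_⟩
  intro y hy
  have h1 : Sga3B.GaPts.gaPt (XTO f T) y = Sga3B.GaPts.gaPt (XTO f T) (Red.gaFn g) := by
    apply hom_ext_etCov (covX f 𝒰)
    intro i
    change XTOmap f (𝒰.j i) ≫ _ = XTOmap f (𝒰.j i) ≫ _
    rw [Sga3B.GaPts.comp_gaPt, Sga3B.GaPts.comp_gaPt]
    congr 1
    exact (hy i).trans (key i).symm
  have h2 := congrArg Red.gaFn h1
  rwa [Sga3B.GaPts.gaFn_gaPt, Sga3B.GaPts.gaFn_gaPt] at h2

/-- Pullback of units. -/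
noncomputable def upu {T T' : Over S} (g : T' ⟶ T) : Γ(PicF.XT f T, ⊤)ˣ →* Γ(PicF.XT f T', ⊤)ˣ :=
  Units.map (PicF.XTmap f g).appTop.hom.toMonoidHom

@[simp] lemma upu_val {T T' : Over S} (g : T' ⟶ T) (x : Γ(PicF.XT f T, ⊤)ˣ) :
    (upu f g x : Γ(PicF.XT f T', ⊤)) = (PicF.XTmap f g).appTop (x : Γ(PicF.XT f T, ⊤)) := rfl

lemma upu_id {T : Over S} (x : Γ(PicF.XT f T, ⊤)ˣ) : upu f (𝟙 T) x = x := by
  ext
  rw [upu_val, XTmap_id]
  rfl

lemma upu_comp {T T' T'' : Over S} (g : T' ⟶ T) (h : T'' ⟶ T') (x : Γ(PicF.XT f T, ⊤)ˣ) :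
    upu f (h ≫ g) x = upu f h (upu f g x) := by
  ext
  rw [upu_val, upu_val, upu_val, XTmap_comp, Scheme.Hom.comp_appTop]
  rfl

/-- `T ↦ Γ(X_T)ˣ`. -/
noncomputable def unitF : (Over S)ᵒᵖ ⥤ Type u where
  obj T := Γ(PicF.XT f T.unop, ⊤)ˣ
  map g := ↾(fun c => upu f g.unop c)
  map_id _ := ConcreteCategory.hom_ext _ _ fun c => upu_id f c
  map_comp g h := ConcreteCategory.hom_ext _ _ fun c => upu_comp f g.unop h.unop c

lemma unitF_map {T T' : Over S} (g : T' ⟶ T) (x : Γ(PicF.XT f T, ⊤)ˣ) :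
    (unitF f).map g.op x = upu f g x := rfl

theorem isEtSheaf_unitF : IsEtSheaf (unitF f) := by
  intro T 𝒰 x₀ hx
  let x : ∀ i : 𝒰.ι, Γ(PicF.XT f (𝒰.V i), ⊤)ˣ := x₀
  have hx1 : ∀ (i k : 𝒰.ι) (W : Over S) (a : W ⟶ 𝒰.V i) (b : W ⟶ 𝒰.V k), a ≫ 𝒰.j i = b ≫ 𝒰.j k →
      upu f a (x i) = upu f b (x k) := hx
  obtain ⟨y, hy, hyu⟩ := existsUnique_glue f 𝒰 (fun i => (x i : Γ(PicF.XT f (𝒰.V i), ⊤))) (by
    intro i k W a b hab
    exact congrArg Units.val (hx1 i k W a b hab))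
  obtain ⟨z, hz, -⟩ := existsUnique_glue f 𝒰 (fun i => ((x i)⁻¹ : Γ(PicF.XT f (𝒰.V i), ⊤)ˣ).val) (by
    intro i k W a b hab
    have h1 := congrArg (fun t => (t⁻¹ : Γ(PicF.XT f W, ⊤)ˣ).val) (hx1 i k W a b hab)
    simp only [← map_inv] at h1
    exact h1)
  have hyz : y * z = 1 := by
    obtain ⟨o, -, hou⟩ := existsUnique_glue f 𝒰 (fun i => (1 : Γ(PicF.XT f (𝒰.V i), ⊤))) (by
      intro i k W a b hab
      rw [map_one, map_one])
    rw [hou (y * z) (fun i => by rw [map_mul, hy i, hz i, Units.mul_inv]), hou 1 (fun i => map_one _)]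
  refine ⟨(⟨y, z, hyz, (mul_comm _ _).trans hyz⟩ : Γ(PicF.XT f T, ⊤)ˣ), fun i => Units.ext (hy i), ?_⟩
  intro y₀ hy'
  let y' : Γ(PicF.XT f T, ⊤)ˣ := y₀
  have h1 : ∀ i, upu f (𝒰.j i) y' = x i := hy'
  exact Units.ext (hyu _ fun i => congrArg Units.val (h1 i))

/-- A universal element for affine test objects is universal, for Zariski sheaves. -/
theorem existsUnique_of_affine {G : (Over S)ᵒᵖ ⥤ Type w} (hG : IsZarSheaf G) (U : Over S) (z : G.obj (op U))
    (h : ∀ T : Over S, IsAffine T.left → ∀ x : G.obj (op T), ∃! g : T ⟶ U, G.map g.op z = x)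
    (T : Over S) (x : G.obj (op T)) : ∃! g : T ⟶ U, G.map g.op z = x := by
  have huniq : ∀ (T : Over S) (a b : T ⟶ U), G.map a.op z = G.map b.op z → a = b := by
    intro T a b hab
    apply hom_ext_local
    intro t
    obtain ⟨V, hV, htV⟩ := exists_isAffineOpen_mem_and_subset (X := T.left) (x := t) (U := ⊤) trivial
    refine ⟨V, htV.1, ?_⟩
    have hV' : IsAffine (Over.mk (V.ι ≫ T.hom) : Over S).left := hV
    apply (h _ hV' (G.map (res T V).op (G.map b.op z))).unique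
    · rw [map_comp_apply, hab]
    · rw [map_comp_apply]
  choose V hV htV using fun t : T.left => exists_isAffineOpen_mem_and_subset (X := T.left) (x := t) (U := ⊤) trivial
  have hV' : ∀ t, IsAffine (Over.mk ((V t).ι ≫ T.hom) : Over S).left := fun t => hV t
  choose g hg hgu using fun t => h _ (hV' t) (G.map (res T (V t)).op x)
  have htV1 : ∀ t, t ∈ V t := fun t => (htV t).1
  obtain ⟨k, hk⟩ := glue_hom T U (pointCover T V htV1) g (by
    intro i j W a b hab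
    let a' : W ⟶ Over.mk ((V i).ι ≫ T.hom) := a
    let b' : W ⟶ Over.mk ((V j).ι ≫ T.hom) := b
    have hab' : a' ≫ res T (V i) = b' ≫ res T (V j) := hab
    change a' ≫ g i = b' ≫ g j
    apply huniq
    rw [map_comp_apply, map_comp_apply, hg, hg, ← map_comp_apply, ← map_comp_apply, hab'])
  have hk' : ∀ t, res T (V t) ≫ k = g t := hk
  refine ⟨k, ?_, fun k' hk'' => ?_⟩
  · apply hG.ext_local
    intro t
    refine ⟨V t, htV1 t, ?_⟩
    rw [← map_comp_apply, hk', hg]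
  · apply huniq
    rw [hk'']
    symm
    apply hG.ext_local
    intro t
    refine ⟨V t, htV1 t, ?_⟩
    rw [← map_comp_apply, hk', hg]

end Groth.Agent.Pic13.H547.SecSheaf
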