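import Groth.Agent.Pic13.H958.KilBC
import Groth.Agent.Pic13.H547.D1Glue

/-!
# Families of square-zero quads

`f : X ⟶ S`, `i : X₀ ⟶ X` a closed immersion of square zero, `w : Y ⟶ X` a closed immersion,
`Y₀ = Y ×_X X₀` (`pb : IsPullback k w₀ w i`).

* `quad T : Quad (wT f i T) (wT f w T) (wT (i ≫ f) w₀ T) (kT T)`;
* `pm`, `pm₀`: the morphisms of pairs over `XT f T` given by base change;
* `H_sq`, `H_sq₀`, `HY_sq` and the flatness of the four morphisms to the base;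
* `resI`: restriction of rigidified modules to `(X₀, Y₀)` (the map `D1Glue.φ`).
-/

set_option autoImplicit false
universe u

open CategoryTheory CategoryTheory.Limits AlgebraicGeometry TopologicalSpace Opposite

namespace Groth.Agent.Pic13.H547.SqzFam

open Groth.Agent Groth.Agent.Fdesc.LocGen
open Groth.Agent.Pic13.H602.Rig Groth.Agent.Picfga.HilbPull
open Groth.Agent.Pic13.H958.RelUnits Groth.Agent.Pic13.H958.AffLift Groth.Agent.Pic13.H958.KilBC

/-! ### Base change of a square-zero closed immersion -/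

section nil

/-- Functions on an affine open killed by a closed immersion belong to its ideal. -/
lemma mul_eq_zero_of_affine {X X₀ : Scheme.{u}} (i : X₀ ⟶ X) [IsClosedImmersion i]
    (hnil : i.ker * i.ker = ⊥) {U : X.Opens} (hU : IsAffineOpen U) {a b : Γ(X, U)} (ha : i.app U a = 0)
    (hb : i.app U b = 0) : a * b = 0 := by
  have h1 : ∀ a : Γ(X, U), i.app U a = 0 → a ∈ i.ker.ideal ⟨U, hU⟩ := fun a ha => by
    rw [Scheme.Hom.ker_apply]
    exact ha
  have h3 : a * b ∈ (i.ker * i.ker).ideal ⟨U, hU⟩ := by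
    rw [Scheme.IdealSheafData.ideal_mul]
    exact Ideal.mul_mem_mul (h1 a ha) (h1 b hb)
  rw [hnil] at h3
  exact h3

variable {Z Z₀ X X₀ : Scheme.{u}} {i : X₀ ⟶ X} {i' : Z₀ ⟶ Z} {p : Z ⟶ X} {p₀ : Z₀ ⟶ X₀}

theorem app_mem (h : IsPullback i' p₀ p i) [IsClosedImmersion i] {U : X.Opens} (hU : IsAffineOpen U)
    {V : Z.Opens} (hV : IsAffineOpen V) (e : V ≤ p ⁻¹ᵁ U) (a : Γ(Z, V)) (ha : i'.app V a = 0) :
    a ∈ (RingHom.ker (i.app U).hom).map (p.appLE U V e).hom := by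
  have he : i' ⁻¹ᵁ V ≤ p₀ ⁻¹ᵁ i ⁻¹ᵁ U := by
    change i' ⁻¹ᵁ V ≤ (p₀ ≫ i) ⁻¹ᵁ U
    rw [← h.w]
    exact i'.preimage_mono e
  have h1 := VarietyB.FlatH0.isPushout_appLE h (US := U) (UT := i ⁻¹ᵁ U) le_rfl (UX := V) e
    (UY := i' ⁻¹ᵁ V) (le_antisymm (le_inf le_rfl he) inf_le_left) le_rfl he hU (hU.preimage i) hV
  let j1 := VarietyB.FlatH0.algOver i (le_refl (i ⁻¹ᵁ U))
  let j2 := VarietyB.FlatH0.algOver p e
  let j3 := VarietyB.FlatH0.algOver i' (le_refl (i' ⁻¹ᵁ V))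
  let j4 := VarietyB.FlatH0.algOver p₀ he
  let j5 : Algebra Γ(X, U) Γ(Z₀, i' ⁻¹ᵁ V) :=
    ((i'.appLE V (i' ⁻¹ᵁ V) le_rfl).hom.comp (p.appLE U V e).hom).toAlgebra
  have j6 : IsScalarTower Γ(X, U) Γ(Z, V) Γ(Z₀, i' ⁻¹ᵁ V) := IsScalarTower.of_algebraMap_eq (fun _ => rfl)
  have j7 : IsScalarTower Γ(X, U) Γ(X₀, i ⁻¹ᵁ U) Γ(Z₀, i' ⁻¹ᵁ V) :=
    IsScalarTower.of_algebraMap_eq (fun a => by
      change i'.appLE V (i' ⁻¹ᵁ V) le_rfl (p.appLE U V e a) =
        p₀.appLE (i ⁻¹ᵁ U) (i' ⁻¹ᵁ V) he (i.appLE U (i ⁻¹ᵁ U) le_rfl a)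
      rw [← CommRingCat.comp_apply, ← CommRingCat.comp_apply, Scheme.Hom.appLE_comp_appLE,
        Scheme.Hom.appLE_comp_appLE]
      simp only [h.w])
  have ei : i.appLE U (i ⁻¹ᵁ U) le_rfl = i.app U := Scheme.Hom.appLE_eq_app i
  have ei' : i'.appLE V (i' ⁻¹ᵁ V) le_rfl = i'.app V := Scheme.Hom.appLE_eq_app i'
  have hS : Function.Surjective (algebraMap Γ(X, U) Γ(X₀, i ⁻¹ᵁ U)) := by
    change Function.Surjective (i.appLE U (i ⁻¹ᵁ U) le_rfl)
    rw [ei]
    exact i.app_surjective U hU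
  have h2 := mem_ker_smul_of_isBaseChange hS h1.out (m := a) (by
    change i'.appLE V (i' ⁻¹ᵁ V) le_rfl a = 0
    rw [ei', ha])
  have hker : RingHom.ker (algebraMap Γ(X, U) Γ(X₀, i ⁻¹ᵁ U)) = RingHom.ker (i.app U).hom := by
    change RingHom.ker (i.appLE U (i ⁻¹ᵁ U) le_rfl).hom = _
    rw [ei]
  rw [hker] at h2
  refine Submodule.smul_induction_on h2 ?_ ?_
  · intro r hr y _
    rw [Algebra.smul_def]
    exact Ideal.mul_mem_right _ _ (Ideal.mem_map_of_mem _ hr)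
  · intro x y hx hy
    exact Ideal.add_mem _ hx hy

/-- **The base change of a closed immersion of square zero is of square zero**. -/
theorem mul_eq_zero_of_isPullback (h : IsPullback i' p₀ p i) [IsClosedImmersion i]
    (hnil : i.ker * i.ker = ⊥) {V : Z.Opens} (a a' : Γ(Z, V)) (ha : i'.app V a = 0)
    (ha' : i'.app V a' = 0) : a * a' = 0 := by
  apply Fga.SqZero.eq_of_locally
  intro z hz
  obtain ⟨U, hzU, -⟩ := Fga.SqZero.exists_affine (X := X) (U := ⊤) (x := p z) trivial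
  obtain ⟨V', hzV', hV'⟩ := Fga.SqZero.exists_affine (U := V ⊓ p ⁻¹ᵁ U.1) (x := z) ⟨hz, hzU⟩
  have hV1 : V'.1 ≤ V := hV'.trans inf_le_left
  have hV2 : V'.1 ≤ p ⁻¹ᵁ U.1 := hV'.trans inf_le_right
  refine ⟨V'.1, hV1, hzV', ?_⟩
  rw [map_mul, map_zero]
  have key : ∀ a : Γ(Z, V), i'.app V a = 0 →
      ores hV1 a ∈ (RingHom.ker (i.app U.1).hom).map (p.appLE U.1 V'.1 hV2).hom := fun a ha =>
    app_mem h U.2 V'.2 hV2 _ (by
      have : i'.app V'.1 (ores hV1 a) = ores (i'.preimage_mono hV1) (i'.app V a) :=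
        congr($(i'.naturality (homOfLE hV1).op) a)
      rw [this, ha, map_zero])
  have h1 : ores hV1 a * ores hV1 a' ∈ (RingHom.ker (i.app U.1).hom *
      RingHom.ker (i.app U.1).hom).map (p.appLE U.1 V'.1 hV2).hom := by
    rw [Ideal.map_mul]
    exact Ideal.mul_mem_mul (key a ha) (key a' ha')
  have h2 : RingHom.ker (i.app U.1).hom * RingHom.ker (i.app U.1).hom = ⊥ := by
    rw [eq_bot_iff, Ideal.mul_le]
    intro r hr s hs
    exact mul_eq_zero_of_affine i hnil U.2 hr hs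
  rw [h2, Ideal.map_bot] at h1
  exact h1

end nil

/-! ### The quads -/

variable {S X X₀ Y Y₀ : Scheme.{u}} (f : X ⟶ S) (i : X₀ ⟶ X) (w : Y ⟶ X) (w₀ : Y₀ ⟶ X₀) (k : Y₀ ⟶ Y)

lemma isPullback_wT (T : Over S) :
    IsPullback (wT f i T) (pullback.fst (i ≫ f) T.hom) (pullback.fst f T.hom) i := by
  refine IsPullback.of_right (h₁₂ := pullback.snd f T.hom) (v₁₃ := T.hom) (h₂₂ := f) ?_
    (wT_fst f i T) (IsPullback.of_hasPullback f T.hom).flip
  rw [wT_snd]
  exact (IsPullback.of_hasPullback (i ≫ f) T.hom).flip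

instance isClosedImmersion_wT [IsClosedImmersion i] (T : Over S) : IsClosedImmersion (wT f i T) :=
  MorphismProperty.of_isPullback (isPullback_wT f i T).flip ‹_›

/-- `Y₀_T ⟶ Y_T`. -/
noncomputable abbrev kT (pb : IsPullback k w₀ w i) (T : Over S) :
    PicF.XT (w₀ ≫ i ≫ f) T ⟶ PicF.XT (w ≫ f) T :=
  D1Glue.gT f i w w₀ k pb.w.symm T

variable {f i w w₀ k} (pb : IsPullback k w₀ w i)

lemma isPullback_kT (T : Over S) :
    IsPullback (kT f i w w₀ k pb T) (wT (i ≫ f) w₀ T) (wT f w T) (wT f i T) := by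
  have h1 := isPullback_wT f w T
  have h2 : IsPullback (wT (i ≫ f) w₀ T) (pullback.fst (w₀ ≫ i ≫ f) T.hom)
    (pullback.fst (i ≫ f) T.hom) w₀ := isPullback_wT (i ≫ f) w₀ T
  refine IsPullback.of_right (h₁₂ := pullback.fst (w ≫ f) T.hom) (v₁₃ := w)
    (h₂₂ := pullback.fst f T.hom) ?_ (D1Glue.sqT f i w w₀ k pb.w.symm T).symm h1.flip
  rw [D1Glue.gT_fst, wT_fst]
  exact h2.flip.paste_horiz pb

/-- **The quads over the objects over `S`.** -/
theorem quad [IsClosedImmersion i] [IsClosedImmersion w] (hnil : i.ker * i.ker = ⊥) (T : Over S) :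
    Quad (wT f i T) (wT f w T) (wT (i ≫ f) w₀ T) (kT f i w w₀ k pb T) where
  pb := isPullback_kT pb T
  ci := inferInstance
  cσ := inferInstance
  nil a a' := mul_eq_zero_of_isPullback (isPullback_wT f i T) hnil a a'

/-! ### Morphisms of pairs -/

section pm

variable {T T₁ T₂ : Over S} {g : T₁ ⟶ T} {g' : T₂ ⟶ T₁} {g'' : T₂ ⟶ T} (e : g' ≫ g = g'')

variable (f w) in
/-- The morphism of pairs given by base change. -/
noncomputable def pm : PairHom (PicF.XTmap f g) (wT f w T₁) (PicF.XTmap f g'') (wT f w T₂) where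
  h := PicF.XTmap f g'
  k := PicF.XTmap (w ≫ f) g'
  w := by rw [← e, XTmap_comp]
  sq := (wT_XTmap f w g').symm

@[simp] lemma pm_h : (pm f w e).h = PicF.XTmap f g' := rfl

@[simp] lemma pm_k : (pm f w e).k = PicF.XTmap (w ≫ f) g' := rfl

variable (f i w₀) in
/-- The morphism of pairs given by base change, for `(X₀, Y₀)`. -/
noncomputable def pm₀ : PairHom (wT f i T₁ ≫ PicF.XTmap f g) (wT (i ≫ f) w₀ T₁)
    (wT f i T₂ ≫ PicF.XTmap f g'') (wT (i ≫ f) w₀ T₂) where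
  h := PicF.XTmap (i ≫ f) g'
  k := PicF.XTmap (w₀ ≫ i ≫ f) g'
  w := by rw [← e, XTmap_comp, ← Category.assoc, ← Category.assoc, wT_XTmap]
  sq := (wT_XTmap (i ≫ f) w₀ g').symm

@[simp] lemma pm₀_h : (pm₀ f i w₀ e).h = PicF.XTmap (i ≫ f) g' := rfl

@[simp] lemma pm₀_k : (pm₀ f i w₀ e).k = PicF.XTmap (w₀ ≫ i ≫ f) g' := rfl

lemma hp : (pm₀ f i w₀ e).h ≫ wT f i T₁ = wT f i T₂ ≫ (pm f w e).h := (wT_XTmap f i g').symm

end pm

/-! ### The cartesian squares over affine bases -/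

section squares

variable {B B' : Type u} [CommRing B] [CommRing B'] [Algebra B B']
  {t₁ : Spec (CommRingCat.of B) ⟶ S} {t₂ : Spec (CommRingCat.of B') ⟶ S}

variable (f) in
lemma isPullback_map_sp (g' : Over.mk t₂ ⟶ Over.mk t₁) (hg' : g'.left = sp B B') :
    IsPullback (PicF.XTmap f g') (pullback.snd f t₂) (pullback.snd f t₁) (sp B B') := by
  rw [← hg']
  exact isPullback_XTmap f g'

variable {T : Over S} {g : Over.mk t₁ ⟶ T} {g' : Over.mk t₂ ⟶ Over.mk t₁} {g'' : Over.mk t₂ ⟶ T}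
  (e : g' ≫ g = g'') (hg' : g'.left = sp B B')

lemma wT_snd_mk (T : Over S) : wT f i T ≫ pullback.snd f T.hom = pullback.snd (i ≫ f) T.hom :=
  wT_snd f i T

include hg' in
/-- The first square. -/
lemma H_sq : IsPullback (pm f w e).h (pullback.snd f t₂) (pullback.snd f t₁) (sp B B') :=
  isPullback_map_sp f g' hg'

include hg' in
/-- The second square. -/
lemma H_sq₀ : IsPullback (pm₀ f i w₀ e).h (wT f i (Over.mk t₂) ≫ pullback.snd f t₂)
    (wT f i (Over.mk t₁) ≫ pullback.snd f t₁) (sp B B') := by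
  have h1 := wT_snd f i (Over.mk t₁)
  have h2 := wT_snd f i (Over.mk t₂)
  dsimp only [Over.mk_hom] at h1 h2
  rw [h1, h2]
  exact isPullback_map_sp (i ≫ f) g' hg'

include hg' in
/-- The third square. -/
lemma HY_sq : IsPullback (pm f w e).k (wT f w (Over.mk t₂) ≫ pullback.snd f t₂)
    (wT f w (Over.mk t₁) ≫ pullback.snd f t₁) (sp B B') := by
  have h1 := wT_snd f w (Over.mk t₁)
  have h2 := wT_snd f w (Over.mk t₂)
  dsimp only [Over.mk_hom] at h1 h2
  rw [h1, h2]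
  exact isPullback_map_sp (w ≫ f) g' hg'

end squares

section flat

variable (f i w w₀)

lemma flat_snd' [Flat f] {B : Type u} [CommRing B] (t : Spec (CommRingCat.of B) ⟶ S) :
    Flat (pullback.snd f t) := inferInstance

lemma flat_wT_snd [Flat (w ≫ f)] (T : Over S) : Flat (wT f w T ≫ pullback.snd f T.hom) := by
  rw [wT_snd]
  infer_instance

instance flat_wT_snd' [Flat (w ≫ f)] {B : Type u} [CommRing B] (t : Spec (CommRingCat.of B) ⟶ S) :
    Flat (wT f w (Over.mk t) ≫ pullback.snd f t) := flat_wT_snd f w (Over.mk t)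

lemma flat_wT_wT_snd [Flat (w₀ ≫ i ≫ f)] (T : Over S) :
    Flat (wT (i ≫ f) w₀ T ≫ wT f i T ≫ pullback.snd f T.hom) := by
  have h : wT (i ≫ f) w₀ T ≫ wT f i T ≫ pullback.snd f T.hom =
      pullback.snd (w₀ ≫ i ≫ f) T.hom := by
    rw [wT_snd]
    exact wT_snd (i ≫ f) w₀ T
  rw [h]
  infer_instance

instance flat_wT_wT_snd' [Flat (w₀ ≫ i ≫ f)] {B : Type u} [CommRing B]
    (t : Spec (CommRingCat.of B) ⟶ S) :
    Flat (wT (i ≫ f) w₀ (Over.mk t) ≫ wT f i (Over.mk t) ≫ pullback.snd f t) :=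
  flat_wT_wT_snd f i w₀ (Over.mk t)

end flat

/-! ### Restriction of rigidified modules -/

section resI

/-- Restriction of rigidified modules from `(X, Y)` to `(X₀, Y₀)`. -/
noncomputable abbrev resI (T : Over S) : RCl (wT f w T) → RCl (wT (i ≫ f) w₀ T) :=
  D1Glue.φ f i w w₀ k pb.w.symm T

lemma resI_cls_iff (T : Over S) (R : RB (wT f w T)) (R₀ : RB (wT (i ≫ f) w₀ T)) :
    resI pb T R.cls = R₀.cls ↔ Nonempty (Arr (isPullback_kT pb T).w.symm R R₀) :=
  RCl.pull_eq_iff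

/-- The form with the quad. -/
lemma resI_cls_iff_quad [IsClosedImmersion i] [IsClosedImmersion w] (hnil : i.ker * i.ker = ⊥)
    (T : Over S) (R : RB (wT f w T)) (R₀ : RB (wT (i ≫ f) w₀ T)) :
    resI pb T R.cls = R₀.cls ↔ Nonempty (Arr (quad pb hnil T).pb.w.symm R R₀) :=
  RCl.pull_eq_iff

lemma resI_nat {T T' : Over S} (g : T' ⟶ T) (x : RCl (wT f w T)) :
    resI pb T' (RCl.pull (wT_XTmap f w g) x) = RCl.pull (wT_XTmap (i ≫ f) w₀ g) (resI pb T x) :=
  D1Glue.φ_nat f i w w₀ k pb.w.symm g x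

/-- Pull back of rigidified modules along a base change, in terms of arrows (the form with `pm`). -/
lemma pull_cls_iff {T₁ T₂ : Over S} (g' : T₂ ⟶ T₁) (R : RB (wT f w T₁)) (R' : RB (wT f w T₂)) :
    RCl.pull (wT_XTmap f w g') R.cls = R'.cls ↔ Nonempty (Arr (wT_XTmap f w g') R R') :=
  RCl.pull_eq_iff

end resI

end Groth.Agent.Pic13.H547.SqzFam
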