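import Mathlib.RingTheory.FinitePresentation
import Mathlib.RingTheory.Smooth.Basic
import Mathlib.RingTheory.TensorProduct.Quotient
import Mathlib.RingTheory.Finiteness.Projective

/-!
# The unit group of a finite projective algebra is represented by a smooth algebra
-/

set_option autoImplicit false
universe u

open TensorProduct

namespace Groth.Agent.Pic13.H547.UnitAlg

variable (A C : Type u) [CommRing A] [CommRing C] [Algebra A C]

theorem exists_dual_basis [Module.Finite A C] [Module.Projective A C] :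
    ∃ (n : ℕ) (c : Fin n → C) (s : Fin n → (C →ₗ[A] A)), ∀ x, ∑ i, s i x • c i = x := by
  obtain ⟨n, f, g, -, -, h⟩ := Module.Finite.exists_comp_eq_id_of_projective A C
  refine ⟨n, fun i => f (Pi.single i 1), fun i => (LinearMap.proj i).comp g, fun x => ?_⟩
  have h1 := DFunLike.congr_fun h x
  simp only [LinearMap.comp_apply, LinearMap.id_apply] at h1
  conv_rhs => rw [← h1]
  have h2 : g x = ∑ i, g x i • (Pi.single i (1 : A) : Fin n → A) := by
    ext j
    simp [Finset.sum_apply, Pi.single_apply]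
  conv_rhs => rw [h2, map_sum]
  simp

section coord

variable {A C} {n : ℕ} (c : Fin n → C) (s : Fin n → (C →ₗ[A] A))

/-- Coordinates on `B ⊗ C`. -/
noncomputable def co (B : Type u) [CommRing B] [Algebra A B] (i : Fin n) : B ⊗[A] C →ₗ[B] B :=
  (AlgebraTensorModule.rid A B B).toLinearMap.comp (AlgebraTensorModule.lTensor B B (s i))

@[simp] lemma co_tmul (B : Type u) [CommRing B] [Algebra A B] (i : Fin n) (b : B) (x : C) :
    co s B i (b ⊗ₜ x) = s i x • b := by
  simp [co]

lemma sum_co (h : ∀ x, ∑ i, s i x • c i = x) (B : Type u) [CommRing B] [Algebra A B] (z : B ⊗[A] C) :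
    ∑ i, (co s B i z) ⊗ₜ[A] c i = z := by
  induction z using TensorProduct.induction_on with
  | zero => simp
  | add x y hx hy =>
    simp only [map_add, TensorProduct.add_tmul, Finset.sum_add_distrib, hx, hy]
  | tmul b x =>
    simp only [co_tmul, TensorProduct.smul_tmul]
    rw [← TensorProduct.tmul_sum, h]

lemma map_co {B B' : Type u} [CommRing B] [Algebra A B] [CommRing B'] [Algebra A B'] (φ : B →ₐ[A] B')
    (i : Fin n) (z : B ⊗[A] C) :
    co s B' i (Algebra.TensorProduct.map φ (AlgHom.id A C) z) = φ (co s B i z) := by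
  induction z using TensorProduct.induction_on with
  | zero => simp
  | add x y hx hy => simp only [map_add, hx, hy]
  | tmul b x => simp

lemma ext_co (h : ∀ x, ∑ i, s i x • c i = x) {B : Type u} [CommRing B] [Algebra A B] {z w : B ⊗[A] C}
    (hzw : ∀ i, co s B i z = co s B i w) : z = w := by
  rw [← sum_co c s h B z, ← sum_co c s h B w]
  simp only [hzw]

end coord

/-- The polynomial ring. -/
abbrev PP (n : ℕ) : Type u := MvPolynomial (ULift.{u} (Fin n ⊕ Fin n)) A

/-- Two algebra homs from `D` agree on a unit if they agree on the unit; inverse version. -/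
lemma map_inv_eq {D B : Type u} [CommRing D] [Algebra A D] [CommRing B] [Algebra A B] (ψ : D →ₐ[A] B)
    (x y : D ⊗[A] C) (hxy : x * y = 1) (v : (B ⊗[A] C)ˣ)
    (h : Algebra.TensorProduct.map ψ (AlgHom.id A C) x = v) :
    Algebra.TensorProduct.map ψ (AlgHom.id A C) y = ((v⁻¹ : (B ⊗[A] C)ˣ) : B ⊗[A] C) := by
  have h1 : (v : B ⊗[A] C) * Algebra.TensorProduct.map ψ (AlgHom.id A C) y = 1 := by
    rw [← h, ← map_mul, hxy, map_one]
  exact (Units.inv_eq_of_mul_eq_one_right h1).symm

/-- The functor `B ↦ (B ⊗ C)ˣ` is represented by a finitely presented algebra. -/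
theorem exists_unitAlg [Module.Finite A C] [Module.Projective A C] :
    ∃ (D : Type u) (_ : CommRing D) (_ : Algebra A D) (_ : Algebra.FinitePresentation A D) (u : (D ⊗[A] C)ˣ),
      ∀ (B : Type u) [CommRing B] [Algebra A B] (v : (B ⊗[A] C)ˣ),
        ∃! φ : D →ₐ[A] B, Algebra.TensorProduct.map φ (AlgHom.id A C) (u : D ⊗[A] C) = v := by
  classical
  obtain ⟨n, c, s, h⟩ := exists_dual_basis A C
  let X : Fin n → PP A n := fun i => MvPolynomial.X ⟨Sum.inl i⟩
  let Y : Fin n → PP A n := fun i => MvPolynomial.X ⟨Sum.inr i⟩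
  let x : PP A n ⊗[A] C := ∑ i, X i ⊗ₜ c i
  let y : PP A n ⊗[A] C := ∑ i, Y i ⊗ₜ c i
  let T : Finset (PP A n) := (Finset.univ.image fun i => X i - co s (PP A n) i x) ∪
    (Finset.univ.image fun i => Y i - co s (PP A n) i y) ∪
    (Finset.univ.image fun i => co s (PP A n) i (x * y - 1))
  let I : Ideal (PP A n) := Ideal.span (T : Set (PP A n))
  have hI : I.FG := ⟨T, rfl⟩
  have mI1 : ∀ i, X i - co s (PP A n) i x ∈ I := fun i => Ideal.subset_span (by simp [T])
  have mI2 : ∀ i, Y i - co s (PP A n) i y ∈ I := fun i => Ideal.subset_span (by simp [T])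
  have mI3 : ∀ i, co s (PP A n) i (x * y - 1) ∈ I := fun i => Ideal.subset_span (by simp [T])
  let q : PP A n →ₐ[A] PP A n ⧸ I := Ideal.Quotient.mkₐ A I
  let qq := Algebra.TensorProduct.map q (AlgHom.id A C)
  have hxy : qq x * qq y = 1 := by
    rw [← map_mul, ← sub_eq_zero, ← map_one qq, ← map_sub]
    apply ext_co c s h
    intro i
    rw [map_co, map_zero]
    exact Ideal.Quotient.eq_zero_iff_mem.mpr (mI3 i)
  have hyx : qq y * qq x = 1 := by
    have h0 : y * x = x * y := mul_comm _ _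
    rw [← map_mul, h0, map_mul, hxy]
  let u : ((PP A n ⧸ I) ⊗[A] C)ˣ := ⟨qq x, qq y, hxy, hyx⟩
  refine ⟨PP A n ⧸ I, inferInstance, inferInstance, Algebra.FinitePresentation.quotient hI, u, ?_⟩
  intro B _ _ v
  let φ₀ : PP A n →ₐ[A] B := MvPolynomial.aeval fun t => Sum.elim (fun i => co s B i (v : B ⊗[A] C))
    (fun i => co s B i ((v⁻¹ : (B ⊗[A] C)ˣ) : B ⊗[A] C)) t.down
  let Φ := Algebra.TensorProduct.map φ₀ (AlgHom.id A C)
  have hX : ∀ i, φ₀ (X i) = co s B i (v : B ⊗[A] C) := fun i => MvPolynomial.aeval_X _ _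
  have hY : ∀ i, φ₀ (Y i) = co s B i ((v⁻¹ : (B ⊗[A] C)ˣ) : B ⊗[A] C) := fun i => MvPolynomial.aeval_X _ _
  have hx : Φ x = v := by
    rw [← sum_co c s h B (v : B ⊗[A] C)]
    simp only [Φ, x, map_sum, Algebra.TensorProduct.map_tmul, hX, AlgHom.coe_id, id_eq]
  have hy : Φ y = ((v⁻¹ : (B ⊗[A] C)ˣ) : B ⊗[A] C) := by
    rw [← sum_co c s h B ((v⁻¹ : (B ⊗[A] C)ˣ) : B ⊗[A] C)]
    simp only [Φ, y, map_sum, Algebra.TensorProduct.map_tmul, hY, AlgHom.coe_id, id_eq]
  have hker : ∀ p ∈ I, φ₀ p = 0 := by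
    have h1 : I ≤ RingHom.ker φ₀ := by
      rw [Ideal.span_le]
      intro p hp
      simp only [T, Finset.coe_union, Finset.coe_image, Finset.coe_univ, Set.image_univ, Set.mem_union,
        Set.mem_range] at hp
      rcases hp with (⟨i, rfl⟩ | ⟨i, rfl⟩) | ⟨i, rfl⟩
      · change φ₀ _ = 0
        rw [map_sub, hX, ← map_co]
        change co s B i (v : B ⊗[A] C) - co s B i (Φ x) = 0
        rw [hx, sub_self]
      · change φ₀ _ = 0
        rw [map_sub, hY, ← map_co]
        change co s B i ((v⁻¹ : (B ⊗[A] C)ˣ) : B ⊗[A] C) - co s B i (Φ y) = 0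
        rw [hy, sub_self]
      · change φ₀ _ = 0
        rw [← map_co]
        change co s B i (Φ (x * y - 1)) = 0
        rw [map_sub, map_mul, hx, hy, map_one, Units.mul_inv, sub_self, map_zero]
    exact fun p hp => h1 hp
  let φ : (PP A n ⧸ I) →ₐ[A] B := Ideal.Quotient.liftₐ I φ₀ hker
  have hφq : φ.comp q = φ₀ := by ext t; rfl
  have hcomp : ∀ z, Algebra.TensorProduct.map φ (AlgHom.id A C) (qq z) = Φ z := by
    intro z
    induction z using TensorProduct.induction_on with
    | zero => simp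
    | add a b ha hb => rw [map_add, map_add, map_add, ha, hb]
    | tmul a b =>
      simp only [qq, Φ, Algebra.TensorProduct.map_tmul, ← hφq, AlgHom.comp_apply, AlgHom.coe_id, id_eq]
  refine ⟨φ, ?_, ?_⟩
  · change Algebra.TensorProduct.map φ (AlgHom.id A C) (qq x) = v
    rw [hcomp, hx]
  · intro ψ hψ
    have hψx : Algebra.TensorProduct.map ψ (AlgHom.id A C) (qq x) = v := hψ
    have hψy := map_inv_eq A C ψ _ _ hxy v hψx
    have hqX : ∀ i, q (X i) = co s (PP A n ⧸ I) i (qq x) := by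
      intro i
      rw [map_co]
      exact Ideal.Quotient.eq.mpr (mI1 i)
    have hqY : ∀ i, q (Y i) = co s (PP A n ⧸ I) i (qq y) := by
      intro i
      rw [map_co]
      exact Ideal.Quotient.eq.mpr (mI2 i)
    have h2 : ψ.comp q = φ.comp q := by
      rw [hφq]
      refine MvPolynomial.algHom_ext fun t => ?_
      rcases t with ⟨i | i⟩
      · change ψ (q (X i)) = φ₀ (X i)
        rw [hqX, ← map_co, hψx, hX]
      · change ψ (q (Y i)) = φ₀ (Y i)
        rw [hqY, ← map_co, hψy, hY]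
    refine AlgHom.ext fun z => ?_
    obtain ⟨z, rfl⟩ := Ideal.Quotient.mkₐ_surjective A I z
    exact DFunLike.congr_fun h2 z

/-- Units lift along `B ⊗ C → (B ⧸ I) ⊗ C` for `I ^ 2 = ⊥`. -/
theorem exists_unit_lift (B : Type u) [CommRing B] [Algebra A B] (I : Ideal B) (hI : I ^ 2 = ⊥)
    (v : ((B ⧸ I) ⊗[A] C)ˣ) : ∃ w : (B ⊗[A] C)ˣ,
      Algebra.TensorProduct.map (Ideal.Quotient.mkₐ A I) (AlgHom.id A C) (w : B ⊗[A] C) = v := by
  let Q := Algebra.TensorProduct.map (Ideal.Quotient.mkₐ A I) (AlgHom.id A C)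
  have hsurj : Function.Surjective Q :=
    TensorProduct.map_surjective (Ideal.Quotient.mkₐ_surjective A I) Function.surjective_id
  obtain ⟨x, hx⟩ := hsurj (v : (B ⧸ I) ⊗[A] C)
  obtain ⟨y, hy⟩ := hsurj ((v⁻¹ : ((B ⧸ I) ⊗[A] C)ˣ) : (B ⧸ I) ⊗[A] C)
  have hker : RingHom.ker Q = I.map (Algebra.TensorProduct.includeLeft : B →ₐ[A] B ⊗[A] C) := by
    have h1 := Algebra.TensorProduct.rTensor_ker (R := A) (S := A) (A := B) (B := B ⧸ I) (C := C) (Ideal.Quotient.mkₐ A I)
      (Ideal.Quotient.mkₐ_surjective A I)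
    have h2 : RingHom.ker (Ideal.Quotient.mkₐ A I) = I := by
      ext z
      exact Ideal.Quotient.eq_zero_iff_mem
    rw [h2] at h1
    exact h1
  have hxy : Q (x * y - 1) = 0 := by
    rw [map_sub, map_mul, map_one, hx, hy, Units.mul_inv, sub_self]
  have hnil : (x * y - 1) ^ 2 = 0 := by
    have h1 : x * y - 1 ∈ I.map (Algebra.TensorProduct.includeLeft : B →ₐ[A] B ⊗[A] C) := by
      rw [← hker]; exact hxy
    have h2 := Ideal.pow_mem_pow h1 2
    rw [← Ideal.map_pow, hI, Ideal.map_bot] at h2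
    exact h2
  have hu : IsUnit (x * y) := by
    have h1 : IsNilpotent (x * y - 1) := ⟨2, hnil⟩
    have h2 := h1.isUnit_add_one
    rwa [sub_add_cancel] at h2
  have hux : IsUnit x := isUnit_of_mul_isUnit_left hu
  exact ⟨hux.unit, hx⟩

/-- A representing algebra of the unit group is smooth. -/
theorem smooth_of_universal (D : Type u) [CommRing D] [Algebra A D] [Algebra.FinitePresentation A D]
    (u : (D ⊗[A] C)ˣ)
    (hu : ∀ (B : Type u) [CommRing B] [Algebra A B] (v : (B ⊗[A] C)ˣ),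
        ∃! φ : D →ₐ[A] B, Algebra.TensorProduct.map φ (AlgHom.id A C) (u : D ⊗[A] C) = v) :
    Algebra.Smooth A D := by
  have : Algebra.FormallySmooth A D := by
    apply Algebra.FormallySmooth.of_comp_surjective
    intro B _ _ I hI g
    let v : ((B ⧸ I) ⊗[A] C)ˣ := Units.map (Algebra.TensorProduct.map g (AlgHom.id A C)).toMonoidHom u
    obtain ⟨w, hw⟩ := exists_unit_lift A C B I hI v
    obtain ⟨φ, hφ, -⟩ := hu B w
    refine ⟨φ, ?_⟩
    apply (hu (B ⧸ I) v).unique _ rfl
    rw [← hw, ← hφ]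
    generalize (u : D ⊗[A] C) = z
    induction z using TensorProduct.induction_on with
    | zero => simp
    | add a b ha hb => rw [map_add, map_add, map_add, ha, hb]
    | tmul a b => simp
  exact ⟨inferInstance, inferInstance⟩

end Groth.Agent.Pic13.H547.UnitAlg
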