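import Groth.Agent.Pic13.H547.SecSheaf
import Groth.Agent.Pic13.H547.UnitAlg
import Groth.Agent.Pic13.H943.CF
import Mathlib.AlgebraicGeometry.Morphisms.Smooth

/-!
# The group scheme of units `T ↦ Γ(X_T)ˣ`

For `f : X ⟶ S`, `S` affine, cohomologically flat in degree zero (`H943.CF f`), the functor `T ↦ Γ(X ×_S T)ˣ` is
represented by a smooth affine group scheme over `S`.
-/

set_option autoImplicit false
universe w u
open CategoryTheory CategoryTheory.Limits AlgebraicGeometry Opposite MonoidalCategory CartesianMonoidalCategory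
open Groth.Agent.Picfga.HilbPull Groth.Agent.Picfga.OverRep Groth.Agent.Models2.QuoRep
open Groth.Agent.Pic13.H547.SecSheaf
open scoped TensorProduct CategoryTheory.MonObj

namespace Groth.Agent.Pic13.H547.UnitGrp

variable {X S : Scheme.{u}}

/-- `Γ(T)` as a `Γ(S)`-algebra. -/
def BT (T : Over S) : Type u := Γ(T.left, ⊤)

noncomputable instance (T : Over S) : CommRing (BT T) := inferInstanceAs (CommRing Γ(T.left, ⊤))

noncomputable instance (T : Over S) : Algebra Γ(S, ⊤) (BT T) := T.hom.appTop.hom.toAlgebra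

lemma algebraMap_BT (T : Over S) : algebraMap Γ(S, ⊤) (BT T) = T.hom.appTop.hom := rfl

/-- `Γ(T) → Γ(T')`. -/
noncomputable def BTmap {T T' : Over S} (g : T' ⟶ T) : BT T →ₐ[Γ(S, ⊤)] BT T' :=
  { g.left.appTop.hom with
    commutes' := fun r => by
      change g.left.appTop.hom (T.hom.appTop.hom r) = T'.hom.appTop.hom r
      rw [← Over.w g, Scheme.Hom.comp_appTop]
      rfl }

lemma BTmap_apply {T T' : Over S} (g : T' ⟶ T) (x : BT T) : BTmap g x = g.left.appTop.hom x := rfl

/-- A representing object of a functor of groups is a group object. -/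
theorem exists_grpObj {C : Type*} [Category C] [CartesianMonoidalCategory C] (X : C) (F : Cᵒᵖ ⥤ GrpCat.{w})
    (α : (F ⋙ forget _).RepresentableBy X) :
    ∃ _ : GrpObj X, ∀ (T : C) (a b : T ⟶ X),
      α.homEquiv (a * b) = (α.homEquiv a * α.homEquiv b : F.obj (op T)) := by
  let G : GrpObj X := GrpObj.ofRepresentableBy X F α
  let β : (((F ⋙ forget₂ GrpCat MonCat) ⋙ forget _)).RepresentableBy X := α
  refine ⟨G, fun T a b => ?_⟩
  change β.homEquiv' (lift a b ≫ β.homEquiv'.symm (β.homEquiv' (fst X X) * β.homEquiv' (snd X X))) =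
    β.homEquiv' a * β.homEquiv' b
  simp only [β.homEquiv'_comp, Equiv.apply_symm_apply, map_mul]
  simp only [← β.homEquiv'_comp]
  simp

section theta

variable (f : X ⟶ S)

/-- The comparison map `Γ(T) ⊗ Γ(X) → Γ(X_T)`. -/
noncomputable def θ (T : Over S) : BT T ⊗[Γ(S, ⊤)] BT (Over.mk f) →+* Γ(PicF.XT f T, ⊤) :=
  ((CommRingCat.isPushout_tensorProduct Γ(S, ⊤) (BT T) (BT (Over.mk f))).desc
    (W := Γ(PicF.XT f T, ⊤)) (CommRingCat.ofHom (pullback.snd f T.hom).appTop.hom)
    (CommRingCat.ofHom (pullback.fst f T.hom).appTop.hom) (by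
      change T.hom.appTop ≫ (pullback.snd f T.hom).appTop = f.appTop ≫ (pullback.fst f T.hom).appTop
      rw [← Scheme.Hom.comp_appTop, ← Scheme.Hom.comp_appTop, pullback.condition])).hom

lemma θ_left (T : Over S) (b : BT T) : θ f T (b ⊗ₜ 1) = (pullback.snd f T.hom).appTop.hom b := by
  have h := (CommRingCat.isPushout_tensorProduct Γ(S, ⊤) (BT T) (BT (Over.mk f))).inl_desc
    (W := Γ(PicF.XT f T, ⊤)) (CommRingCat.ofHom (pullback.snd f T.hom).appTop.hom)
    (CommRingCat.ofHom (pullback.fst f T.hom).appTop.hom) (by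
      change T.hom.appTop ≫ (pullback.snd f T.hom).appTop = f.appTop ≫ (pullback.fst f T.hom).appTop
      rw [← Scheme.Hom.comp_appTop, ← Scheme.Hom.comp_appTop, pullback.condition])
  exact congr(($h).hom b)

lemma θ_right (T : Over S) (c : BT (Over.mk f)) : θ f T (1 ⊗ₜ c) = (pullback.fst f T.hom).appTop.hom c := by
  have h := (CommRingCat.isPushout_tensorProduct Γ(S, ⊤) (BT T) (BT (Over.mk f))).inr_desc
    (W := Γ(PicF.XT f T, ⊤)) (CommRingCat.ofHom (pullback.snd f T.hom).appTop.hom)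
    (CommRingCat.ofHom (pullback.fst f T.hom).appTop.hom) (by
      change T.hom.appTop ≫ (pullback.snd f T.hom).appTop = f.appTop ≫ (pullback.fst f T.hom).appTop
      rw [← Scheme.Hom.comp_appTop, ← Scheme.Hom.comp_appTop, pullback.condition])
  exact congr(($h).hom c)

lemma θ_tmul (T : Over S) (b : BT T) (c : BT (Over.mk f)) : θ f T (b ⊗ₜ c) =
    (pullback.snd f T.hom).appTop.hom b * (pullback.fst f T.hom).appTop.hom c := by
  rw [← θ_left, ← θ_right, ← map_mul, Algebra.TensorProduct.tmul_mul_tmul, mul_one, one_mul]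

lemma θ_nat {T T' : Over S} (g : T' ⟶ T) (z : BT T ⊗[Γ(S, ⊤)] BT (Over.mk f)) :
    (PicF.XTmap f g).appTop.hom (θ f T z) =
      θ f T' (Algebra.TensorProduct.map (BTmap g) (AlgHom.id _ _) z) := by
  induction z using TensorProduct.induction_on with
  | zero => simp
  | add a b ha hb => rw [map_add, map_add, map_add, map_add, ha, hb]
  | tmul b c =>
    rw [Algebra.TensorProduct.map_tmul, θ_tmul, θ_tmul, map_mul]
    congr 1
    · have h : (pullback.snd f T.hom).appTop ≫ (PicF.XTmap f g).appTop =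
          g.left.appTop ≫ (pullback.snd f T'.hom).appTop := by
        rw [← Scheme.Hom.comp_appTop, ← Scheme.Hom.comp_appTop]
        congr 1
        exact XTmap_snd f g
      exact congr(($h).hom b)
    · have h : (pullback.fst f T.hom).appTop ≫ (PicF.XTmap f g).appTop =
          (pullback.fst f T'.hom).appTop := by
        rw [← Scheme.Hom.comp_appTop]
        congr 1
        exact XTmap_fst f g
      exact congr(($h).hom c)

lemma θ_bijective (h : H943.CF f) (T : Over S) [IsAffine T.left] : Function.Bijective (θ f T) := by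
  have h1 := (h.push T inferInstance).flip
  let P := CommRingCat.isPushout_tensorProduct Γ(S, ⊤) (BT T) (BT (Over.mk f))
  have w : CommRingCat.ofHom (algebraMap Γ(S, ⊤) (BT T)) ≫ CommRingCat.ofHom (pullback.snd f T.hom).appTop.hom =
      CommRingCat.ofHom (algebraMap Γ(S, ⊤) (BT (Over.mk f))) ≫
        CommRingCat.ofHom (pullback.fst f T.hom).appTop.hom := h1.w
  have h2 : IsPushout (CommRingCat.ofHom (algebraMap Γ(S, ⊤) (BT T)))
    (CommRingCat.ofHom (algebraMap Γ(S, ⊤) (BT (Over.mk f))))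
    (CommRingCat.ofHom (S := Γ(PicF.XT f T, ⊤)) (R := BT T) (pullback.snd f T.hom).appTop.hom)
    (CommRingCat.ofHom (S := Γ(PicF.XT f T, ⊤)) (R := BT (Over.mk f)) (pullback.fst f T.hom).appTop.hom) := h1
  have h3 : P.desc (CommRingCat.ofHom (pullback.snd f T.hom).appTop.hom)
      (CommRingCat.ofHom (pullback.fst f T.hom).appTop.hom) w = (P.isoIsPushout _ _ h2).hom := by
    apply P.hom_ext
    · rw [P.inl_desc, IsPushout.inl_isoIsPushout_hom]
    · rw [P.inr_desc, IsPushout.inr_isoIsPushout_hom]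
  have h4 : IsIso (P.desc (CommRingCat.ofHom (pullback.snd f T.hom).appTop.hom)
      (CommRingCat.ofHom (pullback.fst f T.hom).appTop.hom) w) := by
    rw [h3]; infer_instance
  exact ConcreteCategory.bijective_of_isIso (P.desc (CommRingCat.ofHom (pullback.snd f T.hom).appTop.hom)
      (CommRingCat.ofHom (pullback.fst f T.hom).appTop.hom) w)

end theta

section pts

variable [IsAffine S] (D : Type u) [CommRing D] [Algebra Γ(S, ⊤) D]

/-- `Spec D` over `S`. -/
noncomputable def SpecO : Over S :=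
  Over.mk (Spec.map (CommRingCat.ofHom (algebraMap Γ(S, ⊤) D)) ≫ S.isoSpec.inv)

lemma SpecO_hom_appTop : (SpecO D : Over S).hom.appTop =
    CommRingCat.ofHom (algebraMap Γ(S, ⊤) D) ≫ (Scheme.ΓSpecIso (CommRingCat.of D)).inv := by
  have h1 : (SpecO D : Over S).hom.appTop = S.isoSpec.inv.appTop ≫
      (Spec.map (CommRingCat.ofHom (algebraMap Γ(S, ⊤) D))).appTop := Scheme.Hom.comp_appTop _ _
  have h2 : S.isoSpec.inv.appTop = (Scheme.ΓSpecIso Γ(S, ⊤)).inv := by
    rw [← cancel_mono (Scheme.ΓSpecIso Γ(S, ⊤)).hom, Iso.inv_hom_id, ← Scheme.toSpecΓ_appTop,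
      ← Scheme.Hom.comp_appTop, Scheme.toSpecΓ_isoSpec_inv, Scheme.Hom.id_appTop]
  rw [h1, h2]
  exact (Scheme.ΓSpecIso_inv_naturality (CommRingCat.ofHom (algebraMap Γ(S, ⊤) D))).symm

variable {D}

/-- The algebra homomorphism attached to a point of `Spec D`. -/
noncomputable def ptAlg {T : Over S} (g : T ⟶ SpecO D) : D →ₐ[Γ(S, ⊤)] BT T :=
  { ((Scheme.ΓSpecIso (CommRingCat.of D)).inv ≫ g.left.appTop).hom with
    commutes' := fun r => by
      have h1 : (SpecO D : Over S).hom.appTop ≫ g.left.appTop = T.hom.appTop := by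
        rw [← Scheme.Hom.comp_appTop, Over.w]
      rw [SpecO_hom_appTop] at h1
      exact congr(($h1).hom r) }

lemma ptAlg_apply {T : Over S} (g : T ⟶ SpecO D) (d : D) :
    ptAlg g d = g.left.appTop.hom ((Scheme.ΓSpecIso (CommRingCat.of D)).inv.hom d) := rfl

lemma ptAlg_comp {T T' : Over S} (h : T' ⟶ T) (g : T ⟶ SpecO D) :
    ptAlg (h ≫ g) = (BTmap h).comp (ptAlg g) := by
  ext d
  rw [ptAlg_apply, Over.comp_left, Scheme.Hom.comp_appTop]
  rfl

lemma ptAlg_bijective (T : Over S) : Function.Bijective (fun g : T ⟶ SpecO D => ptAlg g) := by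
  constructor
  · intro g g' h
    have h0 : ptAlg g = ptAlg g' := h
    ext1
    have : IsAffine (SpecO D : Over S).left := inferInstanceAs (IsAffine (Spec (CommRingCat.of D)))
    apply ext_of_isAffine
    refine (cancel_epi (Scheme.ΓSpecIso (CommRingCat.of D)).inv).mp ?_
    ext d
    exact DFunLike.congr_fun h0 d
  · intro φ
    let ψ : CommRingCat.of D ⟶ Γ(T.left, ⊤) := CommRingCat.ofHom φ.toRingHom
    have hψ : CommRingCat.ofHom (algebraMap Γ(S, ⊤) D) ≫ ψ = T.hom.appTop := by
      ext r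
      exact φ.commutes r
    refine ⟨Over.homMk (T.left.toSpecΓ ≫ Spec.map ψ) ?_, ?_⟩
    · change (T.left.toSpecΓ ≫ Spec.map ψ) ≫ Spec.map _ ≫ S.isoSpec.inv = T.hom
      rw [Category.assoc, ← Spec.map_comp_assoc, hψ, ← Scheme.toSpecΓ_naturality_assoc,
        Scheme.toSpecΓ_isoSpec_inv, Category.comp_id]
    · ext d
      rw [ptAlg_apply]
      exact Sga3B.GaPts.appTop_toSpecΓ_comp φ.toRingHom d

end pts

/-- A group scheme representing `T ↦ Γ(X_T)ˣ`. -/
structure Rep (f : X ⟶ S) where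
  /-- the scheme -/
  U : Over S
  /-- the group structure -/
  [grp : GrpObj U]
  /-- the bijection on points -/
  e : ∀ T : Over S, (T ⟶ U) ≃* Γ(PicF.XT f T, ⊤)ˣ
  nat : ∀ {T T' : Over S} (g : T' ⟶ T) (a : T ⟶ U), e T' (g ≫ a) = upu f g (e T a)
  smooth : Smooth U.hom
  affine : IsAffineHom U.hom

attribute [instance] Rep.grp Rep.smooth Rep.affine

section exist

variable [IsAffine S] (f : X ⟶ S)

/-- `T ↦ Γ(X_T)ˣ` is represented by a smooth affine scheme. -/
theorem exists_universal_unit (h : H943.CF f) :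
    ∃ (U : Over S) (z : Γ(PicF.XT f U, ⊤)ˣ), Smooth U.hom ∧ IsAffineHom U.hom ∧
      ∀ (T : Over S) (x : Γ(PicF.XT f T, ⊤)ˣ), ∃! g : T ⟶ U, upu f g z = x := by
  have hfin : Module.Finite Γ(S, ⊤) (BT (Over.mk f)) := h.fin
  have hproj : Module.Projective Γ(S, ⊤) (BT (Over.mk f)) := h.proj
  obtain ⟨D, _, _, _, u, hu⟩ := UnitAlg.exists_unitAlg Γ(S, ⊤) (BT (Over.mk f))
  have hsm : Algebra.Smooth Γ(S, ⊤) D := UnitAlg.smooth_of_universal _ _ D u hu
  let U : Over S := SpecO D
  have haff : IsAffine U.left := inferInstanceAs (IsAffine (Spec (CommRingCat.of D)))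
  let τ := ptAlg (𝟙 U)
  let z : Γ(PicF.XT f U, ⊤)ˣ := Units.map (θ f U).toMonoidHom
    (Units.map (Algebra.TensorProduct.map τ (AlgHom.id _ _)).toMonoidHom u)
  have hz : ∀ (T : Over S) (g : T ⟶ U), (upu f g z : Γ(PicF.XT f T, ⊤)) =
      θ f T (Algebra.TensorProduct.map (ptAlg g) (AlgHom.id _ _) (u : D ⊗[Γ(S, ⊤)] BT (Over.mk f))) := by
    intro T g
    change (PicF.XTmap f g).appTop.hom (θ f U (Algebra.TensorProduct.map τ (AlgHom.id _ _)
      (u : D ⊗[Γ(S, ⊤)] BT (Over.mk f)))) = _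
    rw [θ_nat]
    congr 1
    have h1 : ptAlg g = (BTmap g).comp τ := by
      rw [← ptAlg_comp, Category.comp_id]
    rw [h1]
    generalize (u : D ⊗[Γ(S, ⊤)] BT (Over.mk f)) = w
    induction w using TensorProduct.induction_on with
    | zero => simp
    | add a b ha hb => rw [map_add, map_add, map_add, ha, hb]
    | tmul a b => simp
  refine ⟨U, z, ?_, ?_, ?_⟩
  · have h1 : Smooth (Spec.map (CommRingCat.ofHom (algebraMap Γ(S, ⊤) D))) := by
      rw [HasRingHomProperty.Spec_iff (P := @Smooth)]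
      exact (RingHom.smooth_algebraMap).mpr hsm
    change Smooth (Spec.map (CommRingCat.ofHom (algebraMap Γ(S, ⊤) D)) ≫ S.isoSpec.inv)
    infer_instance
  · infer_instance
  · refine existsUnique_of_affine (G := unitF f) (isEtSheaf_unitF f).isZarSheaf U z ?_
    intro T hT x₀
    let x : Γ(PicF.XT f T, ⊤)ˣ := x₀
    change ∃! g : T ⟶ U, upu f g z = x
    have hb := θ_bijective f h T
    obtain ⟨y, hy⟩ := hb.2 (x : Γ(PicF.XT f T, ⊤))
    obtain ⟨y', hy'⟩ := hb.2 ((x⁻¹ : Γ(PicF.XT f T, ⊤)ˣ) : Γ(PicF.XT f T, ⊤))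
    have hyy : y * y' = 1 := by
      apply hb.1
      rw [map_mul, hy, hy', map_one, Units.mul_inv]
    let v : (BT T ⊗[Γ(S, ⊤)] BT (Over.mk f))ˣ := ⟨y, y', hyy, (mul_comm _ _).trans hyy⟩
    obtain ⟨φ, hφ, hφu⟩ := hu (BT T) v
    obtain ⟨g, hg⟩ := (ptAlg_bijective (D := D) T).2 φ
    have hg' : ptAlg g = φ := hg
    refine ⟨g, ?_, ?_⟩
    · apply Units.ext
      rw [hz, hg', hφ]
      exact hy
    · intro g' hg''
      apply (ptAlg_bijective (D := D) T).1
      change ptAlg g' = ptAlg g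
      rw [hg']
      apply hφu
      apply hb.1
      rw [← hz, hg'']
      exact hy.symm

/-- The functor `T ↦ Γ(X_T)ˣ` with values in groups. -/
noncomputable def unitGrpF : (Over S)ᵒᵖ ⥤ GrpCat.{u} where
  obj T := GrpCat.of Γ(PicF.XT f T.unop, ⊤)ˣ
  map g := GrpCat.ofHom (upu f g.unop)
  map_id _ := by
    ext x : 2
    exact upu_id f x
  map_comp g h := by
    ext x : 2
    exact upu_comp f g.unop h.unop x

theorem exists_rep (h : H943.CF f) : Nonempty (Rep f) := by
  obtain ⟨U, z, hU, hU', hz⟩ := exists_universal_unit f h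
  let e₀ : ∀ T : Over S, (T ⟶ U) ≃ Γ(PicF.XT f T, ⊤)ˣ := fun T =>
    Equiv.ofBijective (fun g => upu f g z)
      ⟨fun g g' hg => (hz T (upu f g' z)).unique hg rfl, fun x => (hz T x).exists⟩
  let R : (unitGrpF f ⋙ forget _).RepresentableBy U :=
    { homEquiv := fun {T} => e₀ T
      homEquiv_comp := fun {T T'} g a => upu_comp f a g z }
  obtain ⟨G, hG⟩ := exists_grpObj U (unitGrpF f) R
  exact ⟨{ U := U, grp := G,
           e := fun T => { e₀ T with map_mul' := fun a b => hG T a b }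
           nat := fun {T T'} g a => upu_comp f a g z
           smooth := hU, affine := hU' }⟩

end exist

end Groth.Agent.Pic13.H547.UnitGrp
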